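import Groth.Agent.EtColimH.Local
import Groth.Agent.RDerLib.LES
import Groth.Agent.EtMV.Free
import Groth.Agent.EtMV.Inst
import Groth.Agent.EtFLC.Site
import Mathlib

/-!
A presentation of `R²f_*F` by classes in `H²` of étale pieces.
-/

set_option autoImplicit false
set_option backward.isDefEq.respectTransparency false
set_option backward.isDefEq.respectTransparency.types false
set_option linter.style.haveILetI false
set_option linter.auxLemma false

universe u

open CategoryTheory CategoryTheory.Limits CategoryTheory.Abelian AlgebraicGeometry Opposite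

noncomputable section

namespace Groth.Agent.EtR2

attribute [local instance 100000] EtCoh.H._proof_1 EtMV.hext
attribute [local instance 200000] EtMV.hextAb

variable {X S : Scheme.{u}} (f : X ⟶ S) (F : EtCoh.Ab X)

theorem σ_zero {Y : Scheme.{u}} (o : Y.Etale) {G : EtCoh.Ab Y} :
    EtMV.σ (0 : (EtMV.P Y).obj o ⟶ G) = 0 := by
  have h := EtMV.σ_add (0 : (EtMV.P Y).obj o ⟶ G) 0
  rw [zero_add] at h
  exact left_eq_add.1 h

/-- sections killed by the second map come locally from the first -/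
theorem exists_preimage (T : ShortComplex (EtCoh.Ab S)) (hT : T.Exact) (U : S.Etale) (s : EtCoh.sect T.X₂ U)
    (hs : T.g.hom.app (op U) s = 0) (v : U.left) :
    ∃ (W : S.Etale) (g : W ⟶ U), v ∈ Set.range g.left ∧ ∃ r : EtCoh.sect T.X₁ W,
      T.f.hom.app (op W) r = T.X₂.obj.map g.op s := by
  have hφ : (EtMV.σ (o := U)).symm s ≫ T.g = 0 := by
    apply (EtMV.σ (o := U)).injective
    rw [EtMV.σ_comp, Equiv.apply_symm_apply, hs]
    exact (σ_zero (Y := S) U).symm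
  let c : EtCoh.sect (kernel T.g) U := EtMV.σ (kernel.lift T.g _ hφ)
  have hc : (kernel.ι T.g).hom.app (op U) c = s :=
    (EtMV.σ_comp (kernel.lift T.g _ hφ) (kernel.ι T.g)).symm.trans
      ((congrArg EtMV.σ (kernel.lift_ι _ _ _)).trans (Equiv.apply_symm_apply _ s))
  let q : T.X₁ ⟶ kernel T.g := kernel.lift T.g T.f T.zero
  haveI : Epi q := hT.epi_kernelLift
  haveI : Sheaf.IsLocallySurjective q :=
    (Sheaf.isLocallySurjective_iff_epi' AddCommGrpCat.{u + 1} q).2 inferInstance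
  obtain ⟨W, g, ⟨r, hr⟩, hv⟩ :=
    EtColimH.exists_of_mem (Presheaf.imageSieve_mem S.smallEtaleTopology q.hom c) v
  refine ⟨W, g, hv, r, ?_⟩
  have h1 : ((kernel.lift T.g T.f T.zero ≫ kernel.ι T.g).hom.app (op W)) r = T.f.hom.app (op W) r := by
    rw [kernel.lift_ι]
  rw [← h1, ← hc]
  show (kernel.ι T.g).hom.app (op W) ((kernel.lift T.g T.f T.zero).hom.app (op W) r) = _
  rw [hr]
  exact NatTrans.naturality_apply (kernel.ι T.g).hom g.op c

/-- first step of a resolution -/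
def seq₁ : ShortComplex (EtCoh.Ab X) :=
  ShortComplex.mk (Injective.ι F) (cokernel.π (Injective.ι F)) (cokernel.condition _)

theorem seq₁_shortExact : (seq₁ F).ShortExact :=
  { exact := ShortComplex.exact_cokernel _
    mono_f := inferInstanceAs (Mono (Injective.ι F))
    epi_g := inferInstanceAs (Epi (cokernel.π _)) }

/-- second step -/
abbrev seq₂ : ShortComplex (EtCoh.Ab X) := seq₁ (seq₁ F).X₃

instance injective_seq₁ : Injective (seq₁ F).X₂ := inferInstanceAs (Injective (Injective.under F))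

/-- the presentation of `R²f_*F` -/
def R2 : EtCoh.Ab S := cokernel ((EtCoh.push f).map (seq₂ F).g)

theorem nonempty_Rpush_iso : Nonempty ((EtCoh.Rpush f 2).obj F ≅ R2 f F) := by
  let P := EtCoh.push f
  haveI : PreservesFiniteLimits P :=
    haveI := (EtCoh.pullPushAdj f).rightAdjoint_preservesLimits
    PreservesLimitsOfSize.preservesFiniteLimits.{0, 0} _
  let T₁ := RDerLib.res (seq₁_shortExact F)
  let T₂ := RDerLib.res (seq₁_shortExact (seq₁ F).X₃)
  have hz : ∀ (G : EtCoh.Ab X) (q : ℕ), IsZero ((P.rightDerived (q + 1)).obj (seq₁ G).X₂) := fun G q =>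
    P.isZero_rightDerived_obj_injective_succ q _
  -- degree two from degree one
  let d₁ := T₁.delta P 1 2 rfl
  haveI : Mono d₁ := (RDerLib.exact₃ P T₁ 1 2 rfl).mono_g ((hz F 0).eq_of_src _ _)
  haveI : Epi d₁ := (RDerLib.exact₁ P T₁ 1 2 rfl).epi_f ((hz F 1).eq_of_tgt _ _)
  haveI : IsIso d₁ := isIso_of_mono_of_epi _
  -- degree one as a cokernel
  let d₂ := T₂.delta P 0 1 rfl
  haveI : Epi d₂ := (RDerLib.exact₁ P T₂ 0 1 rfl).epi_f ((hz _ 0).eq_of_tgt _ _)
  have hc := (RDerLib.exact₃ P T₂ 0 1 rfl).gIsCokernel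
  let e := (IsColimit.coconePointUniqueUpToIso hc
    (cokernelIsCokernel ((P.rightDerived 0).map (seq₂ F).g)))
  let e' : cokernel ((P.rightDerived 0).map (seq₂ F).g) ≅ R2 f F :=
    cokernel.mapIso _ _ (P.rightDerivedZeroIsoSelf.app _) (P.rightDerivedZeroIsoSelf.app _)
      (P.rightDerivedZeroIsoSelf.hom.naturality (seq₂ F).g)
  exact ⟨(asIso d₁).symm ≪≫ e ≪≫ e'⟩

/-- the piece over an étale `S`-scheme -/
abbrev pc (U : S.Etale) : X.Etale := (EtCoh.bc f).obj U

/-- two connecting maps -/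
def bdy (V : X.Etale) : ((EtMV.P X).obj V ⟶ (seq₂ F).X₃) →+ Ext ((EtMV.P X).obj V) F 2 :=
  AddMonoidHom.mk' (fun φ => ((Ext.mk₀ φ).comp (seq₁_shortExact (seq₁ F).X₃).extClass (zero_add 1)).comp
      (seq₁_shortExact F).extClass (show 1 + 1 = 2 from rfl))
    fun a b => by rw [Ext.mk₀_add, Ext.add_comp, Ext.add_comp]

theorem bdy_surjective (V : X.Etale) : Function.Surjective (bdy F V) := by
  intro x
  obtain ⟨y, hy⟩ := Ext.covariant_sequence_exact₁ _ (seq₁_shortExact F) x (n₀ := 1) (Ext.eq_zero_of_injective _) rfl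
  obtain ⟨z, hz⟩ := Ext.covariant_sequence_exact₁ _ (seq₁_shortExact (seq₁ F).X₃) y (n₀ := 0)
    (Ext.eq_zero_of_injective _) (zero_add 1)
  obtain ⟨φ, rfl⟩ := (Ext.mk₀_bijective _ _).2 z
  exact ⟨φ, (congrArg (fun w => Ext.comp w (seq₁_shortExact F).extClass (show 1 + 1 = 2 from rfl)) hz).trans hy⟩

theorem bdy_eq_zero {V : X.Etale} {φ : (EtMV.P X).obj V ⟶ (seq₂ F).X₃} (h : bdy F V φ = 0) :
    ∃ ψ, ψ ≫ (seq₂ F).g = φ := by
  obtain ⟨a, ha⟩ := Ext.covariant_sequence_exact₃ _ (seq₁_shortExact F)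
    ((Ext.mk₀ φ).comp (seq₁_shortExact (seq₁ F).X₃).extClass (zero_add 1)) rfl h
  rw [Ext.eq_zero_of_injective a, Ext.zero_comp] at ha
  obtain ⟨b, hb⟩ := Ext.covariant_sequence_exact₃ _ (seq₁_shortExact (seq₁ F).X₃) (Ext.mk₀ φ) (zero_add 1) ha.symm
  obtain ⟨ψ, rfl⟩ := (Ext.mk₀_bijective _ _).2 b
  rw [Ext.mk₀_comp_mk₀] at hb
  exact ⟨ψ, (Ext.mk₀_bijective _ _).1 hb⟩

/-- the section of the presentation given by a map -/
def sec (U : S.Etale) (φ : (EtMV.P X).obj (pc f U) ⟶ (seq₂ F).X₃) : EtCoh.sect (R2 f F) U :=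
  (cokernel.π ((EtCoh.push f).map (seq₂ F).g)).hom.app (op U)
    (show EtCoh.sect ((EtCoh.push f).obj (seq₂ F).X₃) U from (EtMV.σ (o := pc f U) φ))

theorem sec_add (U : S.Etale) (φ φ' : (EtMV.P X).obj (pc f U) ⟶ (seq₂ F).X₃) :
    sec f F U (φ + φ') = sec f F U φ + sec f F U φ' := by
  rw [sec, sec, sec, EtMV.σ_add]
  exact map_add _ _ _

theorem sec_comp (U : S.Etale) (ψ : (EtMV.P X).obj (pc f U) ⟶ (seq₂ F).X₂) :
    sec f F U (ψ ≫ (seq₂ F).g) = 0 := by
  rw [sec, EtMV.σ_comp]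
  show (((EtCoh.push f).map (seq₂ F).g ≫ cokernel.π _).hom.app (op U)) (show EtCoh.sect ((EtCoh.push f).obj (seq₂ F).X₂) U from (EtMV.σ (o := pc f U) ψ)) = 0
  rw [cokernel.condition]
  rfl

/-- the class in `R²f_*F` of a class on a piece -/
def cls (U : S.Etale) : Ext ((EtMV.P X).obj (pc f U)) F 2 →+ EtCoh.sect (R2 f F) U :=
  AddMonoidHom.mk' (fun x => sec f F U (bdy_surjective F (pc f U) x).choose) fun x y => by
    have hx := (bdy_surjective F (pc f U) x).choose_spec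
    have hy := (bdy_surjective F (pc f U) y).choose_spec
    have hxy := (bdy_surjective F (pc f U) (x + y)).choose_spec
    obtain ⟨ψ, hψ⟩ := bdy_eq_zero F (V := pc f U) (φ := (bdy_surjective F (pc f U) (x + y)).choose -
      ((bdy_surjective F (pc f U) x).choose + (bdy_surjective F (pc f U) y).choose))
      (by rw [map_sub, map_add, hxy, hx, hy, sub_self])
    rw [← sec_add, show (bdy_surjective F (pc f U) (x + y)).choose =
      ψ ≫ (seq₂ F).g + ((bdy_surjective F (pc f U) x).choose + (bdy_surjective F (pc f U) y).choose) by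
        rw [hψ, sub_add_cancel], sec_add, sec_comp, zero_add]

theorem cls_bdy (U : S.Etale) (φ : (EtMV.P X).obj (pc f U) ⟶ (seq₂ F).X₃) :
    cls f F U (bdy F (pc f U) φ) = sec f F U φ := by
  have h := (bdy_surjective F (pc f U) (bdy F (pc f U) φ)).choose_spec
  obtain ⟨ψ, hψ⟩ := bdy_eq_zero F (V := pc f U)
    (φ := (bdy_surjective F (pc f U) (bdy F (pc f U) φ)).choose - φ) (by rw [map_sub, h, sub_self])
  show sec f F U _ = _
  rw [show (bdy_surjective F (pc f U) (bdy F (pc f U) φ)).choose = ψ ≫ (seq₂ F).g + φ by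
    rw [hψ, sub_add_cancel], sec_add, sec_comp, zero_add]

/-- restriction of classes -/
def rsC {V' V : X.Etale} (g : V' ⟶ V) : Ext ((EtMV.P X).obj V) F 2 →+ Ext ((EtMV.P X).obj V') F 2 :=
  (Ext.mk₀ ((EtMV.P X).map g)).precomp F (zero_add 2)

theorem rsC_bdy {V' V : X.Etale} (g : V' ⟶ V) (φ : (EtMV.P X).obj V ⟶ (seq₂ F).X₃) :
    rsC F g (bdy F V φ) = bdy F V' ((EtMV.P X).map g ≫ φ) := by
  show Ext.comp (Ext.mk₀ _) _ (zero_add 2) = _
  simp only [bdy, AddMonoidHom.mk'_apply]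
  rw [← Ext.comp_assoc (Ext.mk₀ _) _ _ (zero_add 1) (show 1 + 1 = 2 from rfl) (by omega),
    Ext.mk₀_comp_mk₀_assoc]

theorem rsC_rsC {V'' V' V : X.Etale} (h : V'' ⟶ V') (g : V' ⟶ V) (x : Ext ((EtMV.P X).obj V) F 2) :
    rsC F h (rsC F g x) = rsC F (h ≫ g) x := by
  show (Ext.mk₀ _).comp ((Ext.mk₀ _).comp x (zero_add 2)) (zero_add 2) = (Ext.mk₀ _).comp x (zero_add 2)
  rw [Ext.mk₀_comp_mk₀_assoc, Functor.map_comp]

theorem cls_res {U' U : S.Etale} (g : U' ⟶ U) (x : Ext ((EtMV.P X).obj (pc f U)) F 2) :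
    (R2 f F).obj.map g.op (cls f F U x) = cls f F U' (rsC F ((EtCoh.bc f).map g) x) := by
  obtain ⟨φ, rfl⟩ := bdy_surjective F (pc f U) x
  rw [cls_bdy, rsC_bdy, cls_bdy, sec, sec, EtMV.σ_map]
  exact (NatTrans.naturality_apply (cokernel.π ((EtCoh.push f).map (seq₂ F).g)).hom g.op _).symm

/-- every section is locally a class -/
theorem exists_cls (U : S.Etale) (t : EtCoh.sect (R2 f F) U) (v : U.left) :
    ∃ (W : S.Etale) (g : W ⟶ U) (x : Ext ((EtMV.P X).obj (pc f W)) F 2),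
      v ∈ Set.range g.left ∧ cls f F W x = (R2 f F).obj.map g.op t := by
  let q : (EtCoh.push f).obj (seq₂ F).X₃ ⟶ R2 f F := cokernel.π ((EtCoh.push f).map (seq₂ F).g)
  haveI : Epi q := inferInstanceAs (Epi (cokernel.π _))
  haveI : Sheaf.IsLocallySurjective q :=
    (Sheaf.isLocallySurjective_iff_epi' AddCommGrpCat.{u + 1} q).2 inferInstance
  obtain ⟨W, g, ⟨r, hr⟩, hv⟩ :=
    EtColimH.exists_of_mem (Presheaf.imageSieve_mem S.smallEtaleTopology q.hom t) v
  refine ⟨W, g, bdy F (pc f W) ((EtMV.σ (o := pc f W)).symm r), hv, ?_⟩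
  rw [cls_bdy, sec, Equiv.apply_symm_apply]
  exact hr

/-- vanishing classes vanish locally -/
theorem exists_eq_zero (U : S.Etale) (x : Ext ((EtMV.P X).obj (pc f U)) F 2) (h : cls f F U x = 0) (v : U.left) :
    ∃ (W : S.Etale) (g : W ⟶ U), v ∈ Set.range g.left ∧ rsC F ((EtCoh.bc f).map g) x = 0 := by
  obtain ⟨φ, rfl⟩ := bdy_surjective F (pc f U) x
  rw [cls_bdy] at h
  let a : (EtCoh.push f).obj (seq₂ F).X₂ ⟶ (EtCoh.push f).obj (seq₂ F).X₃ := (EtCoh.push f).map (seq₂ F).g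
  let S' : ShortComplex (EtCoh.Ab S) := ShortComplex.mk a (cokernel.π a) (cokernel.condition a)
  obtain ⟨W, g, hv, r, hr⟩ := exists_preimage S' (ShortComplex.exact_cokernel a) U
    (show EtCoh.sect ((EtCoh.push f).obj (seq₂ F).X₃) U from (EtMV.σ (o := pc f U) φ)) h v
  refine ⟨W, g, hv, ?_⟩
  rw [rsC_bdy]
  obtain ⟨ψ, rfl⟩ := (EtMV.σ (o := pc f W)).surjective r
  have : (EtMV.P X).map ((EtCoh.bc f).map g) ≫ φ = ψ ≫ (seq₂ F).g := by
    apply EtMV.σ.injective
    rw [EtMV.σ_map, EtMV.σ_comp]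
    exact hr.symm
  rw [this]
  simp only [bdy, AddMonoidHom.mk'_apply]
  rw [← Ext.mk₀_comp_mk₀, Ext.comp_assoc (Ext.mk₀ ψ) _ _ (add_zero 0) (zero_add 1) (by omega),
    (seq₁_shortExact (seq₁ F).X₃).comp_extClass, Ext.comp_zero, Ext.zero_comp]

end Groth.Agent.EtR2
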