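import Groth.Agent.EtR2.Kummer
import Groth.Agent.EtPBC.CurveH2Proper
import Groth.Agent.EtPBC.CurvePic
import Groth.Agent.EtPBC.AffineCurve
import Groth.Agent.SectRank.DimOfRelDim
import Groth.Agent.SmLocalST.SmoothField
import Groth.Agent.W7Nef.Normalise
import Groth.Agent.SmoothRed.Scheme
import Mathlib

/-!
The class of a point on a smooth proper curve.
-/

set_option autoImplicit false
set_option backward.isDefEq.respectTransparency false
set_option backward.isDefEq.respectTransparency.types false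
set_option linter.style.haveILetI false
set_option linter.auxLemma false
set_option maxHeartbeats 1000000
set_option synthInstance.maxHeartbeats 400000

universe u

open CategoryTheory CategoryTheory.Limits CategoryTheory.Abelian AlgebraicGeometry Opposite IsLocalRing TopologicalSpace
open Groth.Agent.EtFLC (res res_res res_id)
open Groth.Agent.EtPicLib (oval ofO oval_ofO oval_injective)
open Groth.Agent.EtPBC (oval_res)

noncomputable section

namespace Groth.Agent.EtR2

attribute [local instance 100000] EtCoh.H._proof_1 EtMV.hext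
attribute [local instance 200000] EtMV.hextAb

variable {k : Type u} [Field k] [IsAlgClosed k] {C : Scheme.{u}} [IsIntegral C]
  (c : C ⟶ Spec (CommRingCat.of k)) [IsProper c]

include c in
/-- point classes generate modulo `n` -/
theorem exists_eq_nsmul_add {n : ℕ} (r : EtPBC.KRoot (Spec (CommRingCat.of k)) n) (hdim : topologicalKrullDim C = 1)
    (hreg : ∀ x : C, IsClosed ({x} : Set C) → ∃ t, maximalIdeal (C.presheaf.stalk x) = Ideal.span {t})
    {y : C} (hy : IsClosed ({y} : Set C)) {U' : C.Opens} (Ey : EtPBC.DivDat C (EtPBC.compl₁ hy) U')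
    (hEy : Ey.GenAt y) (d : EtPBC.H1g C) : ∃ (a : ℤ) (γ : EtPBC.H1g C), d = a • Ey.cls + (n : ℤ) • γ := by
  haveI : IsLocallyNoetherian C := LocallyOfFiniteType.isLocallyNoetherian c
  haveI : CompactSpace C := QuasiCompact.compactSpace_of_compactSpace c
  haveI : IsNoetherian C := {}
  let P : AddSubgroup (EtPBC.H1g C) :=
    AddSubgroup.zmultiples Ey.cls ⊔ (zsmulAddGroupHom (n : ℤ) : EtPBC.H1g C →+ EtPBC.H1g C).range
  suffices h : P = ⊤ by
    obtain ⟨_, ⟨a, rfl⟩, _, ⟨γ, rfl⟩, h⟩ := AddSubgroup.mem_sup.1 (h ▸ AddSubgroup.mem_top d : d ∈ P)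
    exact ⟨a, γ, h.symm⟩
  refine EtPBC.eq_top_of_point_classes hdim.le P fun x hx V hxV a hu => ⟨V, le_rfl, hxV, ?_⟩
  have htgt : EtPBC.gcls (le_top : EtPBC.compl₁ hx ≤ ⊤) (le_top : V ≤ ⊤) (EtPBC.compl₁_cover hx hxV)
      (res (EtCoh.Gm C) (EtMV.res (inf_le_inf le_rfl (le_refl V))) (ofO hu)) =
      (⟨EtPBC.compl₁_cover hx hxV, a, hu⟩ : EtPBC.DivDat C (EtPBC.compl₁ hx) V).cls := by
    refine congrArg _ (oval_injective ?_)
    rw [oval_res, oval_ofO]
    rw [← ConcreteCategory.comp_apply, ← Functor.map_comp]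
    rfl
  rw [htgt]
  have hne : x ≠ genericPoint C := by
    intro h
    have hsing : (Set.univ : Set C) = {x} := by
      rw [← hx.closure_eq, h, (genericPoint_spec C).def]
    have h1 : ringKrullDim (C.presheaf.stalk x) = 1 := W7Nef.ringKrullDim_stalk_of_isClosed hdim hx
    haveI : Subsingleton C := ⟨fun p q => (Set.mem_singleton_iff.1 (hsing ▸ Set.mem_univ p)).trans
      (Set.mem_singleton_iff.1 (hsing ▸ Set.mem_univ q)).symm⟩
    have h2 := topologicalKrullDim_zero_of_discreteTopology C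
    rw [hdim] at h2
    exact absurd h2 (by norm_num)
  obtain ⟨U, Ex, hEx⟩ := EtPBC.exists_pt_dat c hdim.le hreg hx hne
  obtain ⟨γ, hγ⟩ := EtPBC.exists_nsmul_cls_sub c r hreg hx hy Ex hEx Ey hEy
  obtain ⟨hxU, hgen⟩ := hEx
  let s := C.presheaf.germ _ x hxU Ex.a
  obtain ⟨m, v, hv, hmv⟩ : ∃ (m : ℕ) (v : C.presheaf.stalk x), IsUnit v ∧
      C.presheaf.germ V x hxV a = v * s ^ m := by
    let b := C.presheaf.germ V x hxV a
    have hs : ¬ IsUnit s := fun h => by
      have := hgen ▸ Ideal.mem_span_singleton_self s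
      exact (IsLocalRing.mem_maximalIdeal _).1 this h
    have hb : b ≠ 0 := by
      intro hb
      have ha : a = 0 := germ_injective_of_isIntegral C x hxV (hb.trans (map_zero _).symm)
      have hη : genericPoint C ∈ EtPBC.compl₁ hx ⊓ V :=
        ⟨fun h => hne (Set.mem_singleton_iff.1 h).symm,
          ((genericPoint_spec _).mem_open_set_iff V.isOpen).mpr (by simpa using ⟨x, hxV⟩)⟩
      haveI : Nonempty ↥((EtPBC.compl₁ hx ⊓ V : C.Opens) : Scheme.{u}) := ⟨⟨_, hη⟩⟩
      haveI : Nonempty ↥(EtPBC.compl₁ hx ⊓ V : C.Opens) := ⟨⟨_, hη⟩⟩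
      rw [ha, map_zero, isUnit_zero_iff] at hu
      exact zero_ne_one hu
    have hs0 : s ≠ 0 := EtPBC.genAt_ne_zero c hreg hx hne hgen
    have hirr : Irreducible s := by
      refine ⟨hs, fun p q hpq => ?_⟩
      by_contra hcon
      push Not at hcon
      obtain ⟨hp, hq⟩ := hcon
      obtain ⟨p', hp'⟩ := Ideal.mem_span_singleton'.1 (hgen ▸ (IsLocalRing.mem_maximalIdeal p).2 hp)
      obtain ⟨q', hq'⟩ := Ideal.mem_span_singleton'.1 (hgen ▸ (IsLocalRing.mem_maximalIdeal q).2 hq)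
      refine hs (IsUnit.of_mul_eq_one (p' * q') (mul_left_cancel₀ hs0 ?_))
      rw [mul_one]
      conv_rhs => rw [hpq, ← hp', ← hq']
      ring
    obtain ⟨m, v, hv, hvb⟩ := WfDvdMonoid.max_power_factor hb hirr
    refine ⟨m, v, ?_, by rw [show C.presheaf.germ V x hxV a = b from rfl, hvb, mul_comm]⟩
    by_contra hvu
    refine hv (Ideal.mem_span_singleton.1 ?_)
    rw [← hgen]
    exact (IsLocalRing.mem_maximalIdeal _).2 hvu
  have hcls : (⟨EtPBC.compl₁_cover hx hxV, a, hu⟩ : EtPBC.DivDat C (EtPBC.compl₁ hx) V).cls = m • Ex.cls := by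
    rw [← EtPBC.DivDat.cls_npow]
    exact EtPBC.DivDat.cls_eq_of_germ hx rfl rfl (Ex.npow m)
      (⟨EtPBC.compl₁_cover hx hxV, a, hu⟩ : EtPBC.DivDat C (EtPBC.compl₁ hx) V) hxU hxV hv
      (hmv.trans (congrArg (v * ·) (map_pow _ _ m).symm))
  rw [hcls, show Ex.cls = Ey.cls + n • γ by rw [hγ, add_sub_cancel], smul_add]
  refine AddSubgroup.mem_sup.2 ⟨m • Ey.cls, AddSubgroup.nsmul_mem _ (AddSubgroup.mem_zmultiples _) _,
    m • n • γ, ⟨m • γ, ?_⟩, rfl⟩
  rw [zsmulAddGroupHom_apply, natCast_zsmul, smul_comm]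

omit [IsIntegral C] [IsAlgClosed k] [IsProper c] in
theorem isIntegral_of_curve [SmoothOfRelativeDimension 1 c] [IrreducibleSpace C] : IsIntegral C := by
  haveI := SmoothOfRelativeDimension.smooth 1 c
  haveI : IsReduced C := SmoothRed.isReduced_of_smooth_scheme c
  exact isIntegral_of_irreducibleSpace_of_isReduced C

include c in
omit [IsIntegral C] in
/-- facts on a smooth proper curve -/
theorem curve_facts [SmoothOfRelativeDimension 1 c] [IrreducibleSpace C] :
    topologicalKrullDim C = 1 ∧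
      ∀ x : C, IsClosed ({x} : Set C) → ∃ t, maximalIdeal (C.presheaf.stalk x) = Ideal.span {t} := by
  haveI := SmoothOfRelativeDimension.smooth 1 c
  haveI := isIntegral_of_curve c
  have hdim : topologicalKrullDim C = 1 := by
    rw [SectRank.topologicalKrullDim_of_smoothOfRelativeDimension c 1]; rfl
  refine ⟨hdim, fun x hx => ?_⟩
  haveI := SmLocalST.isRegularLocalRing_stalk_of_smooth_field c x
  exact EtPBC.exists_maximalIdeal_eq_span (W7Nef.ringKrullDim_stalk_of_isClosed hdim hx)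

omit [IsIntegral C] in
theorem postcomp_bijective {n' : ℕ} {r : EtPBC.KRoot C n'} :
    Function.Bijective (fun z : EtCoh.H C (EtCoh.const C (ZMod n')) 2 =>
      Ext.comp z (Ext.mk₀ r.iso.hom) (add_zero 2)) :=
  EtAcycX.bijective_comp_iso r.iso.hom 2

include c in
/-- **all points have the same class** -/
theorem point_class_eq [SmoothOfRelativeDimension 1 c] {n : ℕ} (hn : 1 ≤ n) (hnk : (n : k) ≠ 0)
    (hu : IsUnit (n : Γ(C, ⊤))) {x y : C} (hx : IsClosed ({x} : Set C)) (hy : IsClosed ({y} : Set C))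
    {U U' : C.Opens} (Ex : EtPBC.DivDat C (EtPBC.compl₁ hx) U) (hEx : Ex.GenAt x)
    (Ey : EtPBC.DivDat C (EtPBC.compl₁ hy) U') (hEy : Ey.GenAt y) : dμ hu Ex.cls = dμ hu Ey.cls := by
  obtain ⟨hdim, hreg⟩ := curve_facts c
  let r₀ := EtPBC.kRootOf (𝟙 (Spec (CommRingCat.of k))) hn hnk
  let r := EtPBC.kRootOf c hn hnk
  obtain ⟨γ, hγ⟩ := EtPBC.exists_nsmul_cls_sub c r₀ hreg hx hy Ex hEx Ey hEy
  rw [← sub_eq_zero, ← map_sub, ← hγ, show dμ hu (n • γ) = dμ r.unit (n • γ) from rfl, dμ_eq_dK, r.dK_nsmul,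
    Ext.zero_comp]

include c in
/-- **the point class generates** -/
theorem point_class_gen [SmoothOfRelativeDimension 1 c] {n : ℕ} (hn : 1 ≤ n) (hnk : (n : k) ≠ 0)
    (hu : IsUnit (n : Γ(C, ⊤))) {y : C} (hy : IsClosed ({y} : Set C)) {U' : C.Opens}
    (Ey : EtPBC.DivDat C (EtPBC.compl₁ hy) U') (hEy : Ey.GenAt y) (z : EtCoh.H C (EtCoh.mu C n) 2) :
    ∃ a : ℤ, z = a • dμ hu Ey.cls := by
  haveI : IsLocallyNoetherian C := LocallyOfFiniteType.isLocallyNoetherian c
  haveI : CompactSpace C := QuasiCompact.compactSpace_of_compactSpace c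
  haveI : IsNoetherian C := {}
  obtain ⟨hdim, hreg⟩ := curve_facts c
  let r₀ := EtPBC.kRootOf (𝟙 (Spec (CommRingCat.of k))) hn hnk
  let r := EtPBC.kRootOf c hn hnk
  obtain ⟨z, rfl⟩ := (postcomp_bijective (r := r)).2 z
  obtain ⟨d, rfl⟩ := r.dK_surjective (fun a ha => EtPBC.eq_zero_of_nsmul_H_Gm c hdim.le le_rfl n hnk a ha) z
  obtain ⟨a, γ, rfl⟩ := exists_eq_nsmul_add c r₀ hdim hreg hy Ey hEy d
  refine ⟨a, ?_⟩
  show Ext.comp (r.dK _) _ _ = _
  rw [← dμ_eq_dK r, map_add, map_zsmul, natCast_zsmul, add_eq_left, dμ_eq_dK r, r.dK_nsmul, Ext.zero_comp]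

include c in
/-- **the point class has order `n`** -/
theorem point_class_order [SmoothOfRelativeDimension 1 c] {n : ℕ} (hn : 1 ≤ n) (hnk : (n : k) ≠ 0)
    (hu : IsUnit (n : Γ(C, ⊤))) {y : C} (hy : IsClosed ({y} : Set C)) {U' : C.Opens}
    (Ey : EtPBC.DivDat C (EtPBC.compl₁ hy) U') (hEy : Ey.GenAt y) (m : ℕ) (hm : m • dμ hu Ey.cls = 0) : n ∣ m := by
  haveI := SmoothOfRelativeDimension.smooth 1 c
  obtain ⟨hdim, -⟩ := curve_facts c
  let r := EtPBC.kRootOf c hn hnk
  letI : C.Over (Spec (CommRingCat.of k)) := ⟨c⟩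
  obtain ⟨e⟩ := EtPBC.nonempty_H2_zmod_proper (C := C) (n := n) ⟨inferInstanceAs (IsProper c),
    inferInstanceAs (Smooth c), inferInstance, hdim⟩ hn hnk
  obtain ⟨a, ha⟩ := point_class_gen c hn hnk hu hy Ey hEy (Ext.comp (e.symm 1) (Ext.mk₀ r.iso.hom) (add_zero 2))
  have h0 : Ext.comp (m • e.symm 1) (Ext.mk₀ r.iso.hom) (add_zero 2) = 0 := by
    rw [show Ext.comp (m • e.symm 1) (Ext.mk₀ r.iso.hom) (add_zero 2) =
      m • Ext.comp (e.symm 1) (Ext.mk₀ r.iso.hom) (add_zero 2) from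
        map_nsmul ((Ext.mk₀ r.iso.hom).postcomp _ (add_zero 2)) m (e.symm 1), ha, smul_comm, hm, smul_zero]
  have h1 : m • e.symm 1 = 0 := (postcomp_bijective (r := r)).1 (h0.trans (map_zero
    ((Ext.mk₀ r.iso.hom).postcomp (EtCoh.const C ℤ) (add_zero 2))).symm)
  have h2 := congrArg e h1
  rw [map_nsmul, map_zero, e.apply_symm_apply, nsmul_one] at h2
  exact (ZMod.natCast_eq_zero_iff m n).1 h2

end Groth.Agent.EtR2
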