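import Groth.Agent.EtR2.Res
import Groth.Agent.EtPBC.GeomPt
import Groth.Agent.EtPBC.ProperAll
import Groth.Agent.EtPBC.ClosedFibre
import Groth.Agent.EtPBC.KummerH2
import Groth.Agent.EtPBC.Via
import Groth.Agent.EtStrictLoc.Main
import Mathlib

/-!
Classes dying on a geometric fibre die near it; roots of unity exist étale locally.
-/

set_option autoImplicit false
set_option backward.isDefEq.respectTransparency false
set_option backward.isDefEq.respectTransparency.types false
set_option linter.style.haveILetI false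
set_option linter.auxLemma false
set_option maxHeartbeats 1000000

universe u

open CategoryTheory CategoryTheory.Limits CategoryTheory.Abelian AlgebraicGeometry Opposite IsLocalRing

noncomputable section

namespace Groth.Agent.EtR2

attribute [local instance 100000] EtCoh.H._proof_1 EtMV.hext
attribute [local instance 200000] EtMV.hextAb

variable {X S : Scheme.{u}}

theorem nsmul_id_mu (X : Scheme.{u}) (n : ℕ) : n • 𝟙 (EtCoh.mu X n) = 0 := by
  haveI : Mono (EtCoh.muι X n) := inferInstanceAs (Mono (kernel.ι (EtCoh.powMap X n)))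
  refine (cancel_mono (EtCoh.muι X n)).1 ?_
  rw [Preadditive.nsmul_comp, Category.id_comp, zero_comp]
  have h : EtCoh.muι X n ≫ (n • 𝟙 (EtCoh.Gm X)) = 0 := kernel.condition (EtCoh.powMap X n)
  rwa [Preadditive.comp_nsmul, Category.comp_id] at h

theorem isLTorsion_mu (X : Scheme.{u}) (n : ℕ) (hn : 0 < n) :
    EtAcyc.IsLTorsion Set.univ (EtCoh.mu X n) := by
  intro U s x
  refine ⟨U, 𝟙 U, n, ⟨x, rfl⟩, ⟨hn, fun p _ _ => trivial⟩, ?_⟩
  rw [op_id, CategoryTheory.Functor.map_id]
  show n • s = 0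
  let evs : (EtCoh.mu X n ⟶ EtCoh.mu X n) →+ EtCoh.sect (EtCoh.mu X n) U :=
    AddMonoidHom.mk' (fun φ => φ.hom.app (op U) s) (fun _ _ => rfl)
  exact ((map_nsmul evs n (𝟙 _)).symm.trans (congrArg evs (nsmul_id_mu X n))).trans (map_zero evs)

/-- roots of unity of invertible order exist étale locally -/
theorem exists_root_nhd (n : ℕ) (hn : 1 ≤ n) (hu : IsUnit (n : Γ(S, ⊤))) (s : S) :
    ∃ (W : S.Etale) (w : W.left), W.hom w = s ∧ Nonempty (EtPBC.KRoot W.left n) := by
  obtain ⟨R, _, _, _, _, hR⟩ := EtBCQ.exists_sh (S.presheaf.stalk s)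
  haveI : HenselianLocalRing R := hR.henselian
  haveI : IsSepClosed (ResidueField R) := hR.isSepClosure.1
  have hnR : (n : ResidueField R) ≠ 0 := by
    have h := hu.map ((residue R).comp ((algebraMap (S.presheaf.stalk s) R).comp (S.presheaf.Γgerm s).hom))
    rw [map_natCast] at h
    exact h.ne_zero
  obtain ⟨z, hz⟩ := EtPBC.exists_cyclotomic_root n hn hnR
  obtain ⟨i, y, hy⟩ := EtStrictLoc.exists_idx_ev_eq (S := S) (s := s) (R := R) z
  obtain ⟨k, a, ha⟩ := EtStrictLoc.exists_idx_kill (S := S) (s := s) (R := R) i (Polynomial.aeval y (Polynomial.cyclotomic n ℤ)) (by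
    rw [show i.nhd.ev (Polynomial.aeval y (Polynomial.cyclotomic n ℤ)) =
      i.nhd.ev.hom.toIntAlgHom (Polynomial.aeval y (Polynomial.cyclotomic n ℤ)) from rfl,
      ← Polynomial.aeval_algHom_apply, show i.nhd.ev.hom.toIntAlgHom y = z from hy, hz])
  let y' := (EtStrictLoc.Idx.nhdMap a).1.left.unop y
  have hy' : Polynomial.aeval y' (Polynomial.cyclotomic n ℤ) = 0 := by
    rw [show y' = (EtStrictLoc.Idx.nhdMap a).1.left.unop.hom.toIntAlgHom y from rfl,
      Polynomial.aeval_algHom_apply]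
    exact ha
  let W := k.nhd.et
  refine ⟨W, k.nhd.pt (closedPoint (ResidueField R)), ?_, ⟨⟨hn, ?_, (Scheme.ΓSpecIso _).inv y', ?_⟩⟩⟩
  · have h := congrArg (fun m => m (closedPoint (ResidueField R))) k.nhd.pt_w
    refine Eq.trans h ?_
    rw [Hens2.geomPt, Hens2.specOf]
    have h2 : ∀ q, (Spec.map (CommRingCat.ofHom (algebraMap (S.presheaf.stalk s) R))) q = closedPoint _ →
        S.fromSpecStalk s ((Spec.map (CommRingCat.ofHom (algebraMap (S.presheaf.stalk s) R))) q) = s := fun q h => by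
      rw [h]; exact Scheme.fromSpecStalk_closedPoint
    refine h2 _ (Eq.trans (congrArg _ ?_) (IsLocalRing.comap_closedPoint (algebraMap (S.presheaf.stalk s) R)))
    exact IsLocalRing.comap_closedPoint (residue R)
  · have h := hu.map W.hom.appTop.hom
    rwa [map_natCast] at h
  · exact (Polynomial.aeval_algHom_apply (Scheme.ΓSpecIso k.nhd.1.left.unop).inv.hom.toIntAlgHom y' _).trans
      ((congrArg _ hy').trans (map_zero _))

/-- classes dying on the strict localisation die on a stage -/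
theorem exists_stage_eq_zero (f : X ⟶ S) [IsProper f] (F : EtCoh.Ab X) (q : ℕ) (z : EtCoh.H X F q) (s : S)
    (R : Type u) [CommRing R] [IsLocalRing R] [Algebra (S.presheaf.stalk s) R]
    [IsLocalHom (algebraMap (S.presheaf.stalk s) R)] (hR : _root_.Hensel.IsStrictHenselization (S.presheaf.stalk s) R)
    [HenselianLocalRing R] [IsSepClosed (ResidueField R)]
    [PreservesFiniteLimits (EtCoh.pull (pullback.fst f (Hens2.specOf S s R)))]
    (hg : EtCore.Hpull (pullback.fst f (Hens2.specOf S s R)) F q z = 0) :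
    ∃ k : EtStrictLoc.Idx S s R, ∀ [PreservesFiniteLimits (EtCoh.pull (EtStrictLoc.xp f s R k))],
      EtCore.Hpull (EtStrictLoc.xp f s R k) F q z = 0 := by
  obtain ⟨i₀⟩ : Nonempty (EtStrictLoc.Idx S s R) := IsCofiltered.nonempty
  haveI : ∀ j, PreservesFiniteLimits (EtCoh.pull ((EtStrictLoc.xCone f s R).π.app j)) := fun j =>
    EtPullExact.pull_preservesFiniteLimits _
  haveI : ∀ {j k : EtStrictLoc.Idx S s R} (a : j ⟶ k),
      PreservesFiniteLimits (EtCoh.pull ((EtStrictLoc.xDiag f s R).map a)) := fun a =>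
    EtPullExact.pull_preservesFiniteLimits _
  haveI : ∀ j, PreservesFiniteLimits (EtCoh.pull (EtStrictLoc.xp f s R j)) := fun j =>
    EtPullExact.pull_preservesFiniteLimits _
  obtain ⟨k, hk⟩ := EtPBC.exists_stage_inj (EtStrictLoc.isLimitXCone f s R) (EtStrictLoc.xp f s R)
    (fun a => EtStrictLoc.xp_w f s R a) (pullback.fst f (Hens2.specOf S s R)) (EtStrictLoc.xπ_snd f s R) F q i₀ z hg
  refine ⟨k, ?_⟩
  intro _; exact hk

/-- from the geometric fibre to the strict localisation -/
theorem strict_eq_zero (f : X ⟶ S) [IsProper f] (F : EtCoh.Ab X) (hF : EtAcyc.IsLTorsion Set.univ F) (q : ℕ)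
    (z : EtCoh.H X F q) {Ω : Type u} [Field Ω] [IsSepClosed Ω] (ξ : Spec (CommRingCat.of Ω) ⟶ S)
    [PreservesFiniteLimits (EtCoh.pull (pullback.fst f ξ))] (s : S)
    (R : Type u) [CommRing R] [IsLocalRing R] [Algebra (S.presheaf.stalk s) R]
    [HenselianLocalRing R] [IsSepClosed (ResidueField R)]
    (ext : ResidueField R →+* Ω) (hext : Spec.map (CommRingCat.ofHom ext) ≫ Hens2.geomPt S s R = ξ)
    [PreservesFiniteLimits (EtCoh.pull (pullback.fst f (Hens2.specOf S s R)))]
    (hz : EtCore.Hpull (pullback.fst f ξ) F q z = 0) :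
    EtCore.Hpull (pullback.fst f (Hens2.specOf S s R)) F q z = 0 := by
  let g := pullback.fst f (Hens2.specOf S s R)
  let b := pullback.snd f (Hens2.specOf S s R)
  let r := Spec.map (CommRingCat.ofHom (residue R))
  let φ := Spec.map (CommRingCat.ofHom ext)
  let i := pullback.fst b r
  let c := pullback.snd b r
  have hq : (φ ≫ r) ≫ Hens2.specOf S s R = ξ := by rw [Category.assoc]; exact hext
  let m : pullback f ξ ⟶ pullback f (Hens2.specOf S s R) :=
    pullback.lift (pullback.fst f ξ) (pullback.snd f ξ ≫ φ ≫ r)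
      (by rw [pullback.condition, Category.assoc, hq])
  let e : pullback f ξ ⟶ pullback b r := pullback.lift m (pullback.snd f ξ ≫ φ)
    (by simp only [m, b, pullback.lift_snd, Category.assoc])
  have sq : IsPullback e (pullback.snd f ξ) c φ := by
    refine IsPullback.of_right ?_ (pullback.lift_snd _ _ _) (IsPullback.of_hasPullback b r)
    rw [pullback.lift_fst]
    refine IsPullback.of_right ?_ (pullback.lift_snd _ _ _) (IsPullback.of_hasPullback f (Hens2.specOf S s R))
    rw [pullback.lift_fst, hq]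
    exact IsPullback.of_hasPullback f ξ
  haveI := EtPullExact.pull_preservesFiniteLimits i
  haveI := EtPullExact.pull_preservesFiniteLimits e
  haveI := EtPullExact.pull_preservesFiniteLimits (i ≫ g)
  have hFR := EtAcycX.isLTorsion_pull g hF
  have hF0 := EtAcycX.isLTorsion_pull (i ≫ g) hF
  have h₁ : Function.Bijective (EtCore.HpullVia i g (i ≫ g) rfl F q) :=
    (EtPBC.bijective_HpullVia_iff i g _ rfl F q).2
      ((EtPBC.compN_closedFibre_henselian b i c (IsPullback.of_hasPullback b r) q _ hFR).1 q le_rfl)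
  have w₂ : e ≫ i ≫ g = pullback.fst f ξ := by
    simp only [e, i, m, g, ← Category.assoc, pullback.lift_fst]
  have h₂ : Function.Bijective (EtCore.HpullVia e (i ≫ g) (pullback.fst f ξ) w₂ F q) :=
    (EtPBC.bijective_HpullVia_iff e _ _ _ F q).2
      (EtPBC.bijective_Hpull_sepClosed ext c e (pullback.snd f ξ) sq _ hF0 q)
  have hg : EtCore.Hpull g F q z = 0 := by
    refine h₁.1 (h₂.1 ?_)
    rw [EtAcycX.Hpull_HpullVia, EtAcycX.Hpull_HpullVia, hz, map_zero, map_zero]
  exact hg

theorem pt_over (s : S) (R : Type u) [CommRing R] [IsLocalRing R] [Algebra (S.presheaf.stalk s) R]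
    [IsLocalHom (algebraMap (S.presheaf.stalk s) R)] [HenselianLocalRing R] [IsSepClosed (ResidueField R)]
    {Ω : Type u} [Field Ω] (ξ : Spec (CommRingCat.of Ω) ⟶ S)
    (ext : ResidueField R →+* Ω) (hext : Spec.map (CommRingCat.ofHom ext) ≫ Hens2.geomPt S s R = ξ)
    (k : EtStrictLoc.Idx S s R) :
    ∃ w : k.nhd.et.left, k.nhd.et.hom w = ξ (closedPoint Ω) := by
  have h : (Spec.map (CommRingCat.ofHom ext) ≫ k.nhd.pt) ≫ k.nhd.et.hom = ξ := by
    rw [Category.assoc, k.nhd.pt_w]; exact hext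
  exact ⟨(Spec.map (CommRingCat.ofHom ext) ≫ k.nhd.pt) (closedPoint Ω),
    (Scheme.Hom.comp_apply _ k.nhd.et.hom _).symm.trans (congrArg (fun m : _ ⟶ S => m (closedPoint Ω)) h)⟩

/-- **classes dying on a geometric fibre of a proper morphism die on an étale neighbourhood** -/
theorem exists_nhd_eq_zero (f : X ⟶ S) [IsProper f] (F : EtCoh.Ab X) (hF : EtAcyc.IsLTorsion Set.univ F) (q : ℕ)
    (z : EtCoh.H X F q) {Ω : Type u} [Field Ω] [IsSepClosed Ω] (ξ : Spec (CommRingCat.of Ω) ⟶ S)
    [PreservesFiniteLimits (EtCoh.pull (pullback.fst f ξ))]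
    (hz : EtCore.Hpull (pullback.fst f ξ) F q z = 0) :
    ∃ (W : S.Etale) (w : W.left), W.hom w = ξ (closedPoint Ω) ∧
      ∀ [PreservesFiniteLimits (EtCoh.pull ((EtCoh.bc f).obj W).hom)],
        EtCore.Hpull ((EtCoh.bc f).obj W).hom F q z = 0 := by
  obtain ⟨s, R, _, _, _, _, hR, ext, hext⟩ := EtPBC.exists_strict_factor ξ
  haveI : HenselianLocalRing R := hR.henselian
  haveI : IsSepClosed (ResidueField R) := hR.isSepClosure.1
  haveI := EtPullExact.pull_preservesFiniteLimits (pullback.fst f (Hens2.specOf S s R))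
  obtain ⟨k, hk⟩ := exists_stage_eq_zero f F q z s R hR (strict_eq_zero f F hF q z ξ s R ext hext hz)
  obtain ⟨w, hw⟩ := pt_over s R ξ ext hext k
  exact ⟨k.nhd.et, w, hw, hk⟩

end Groth.Agent.EtR2
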