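import Groth.Agent.EtPBC.DivClass
import Groth.Agent.EtPBC.DiagGeom
import Groth.Agent.FpqcDescent.IdealGlue
import Mathlib

/-!
The equation of a section of a smooth curve over a base, on geometric fibres.
-/

set_option autoImplicit false
set_option backward.isDefEq.respectTransparency false
set_option backward.isDefEq.respectTransparency.types false
set_option linter.style.haveILetI false
set_option linter.auxLemma false
set_option maxHeartbeats 1000000

universe u

open CategoryTheory CategoryTheory.Limits AlgebraicGeometry TopologicalSpace IsLocalRing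

noncomputable section

namespace Groth.Agent.EtR2

variable {X S : Scheme.{u}} (σ : S ⟶ X) [IsClosedImmersion σ]

/-- the complement of a section -/
def offSec : X.Opens := ⟨(Set.range σ)ᶜ, σ.isClosedEmbedding.isClosed_range.isOpen_compl⟩

variable {σ}

theorem mem_basicOpen_of_notMem {A : X.affineOpens} {t : Γ(X, A.1)} (ht : σ.ker.ideal A = Ideal.span {t}) {x : X}
    (hx : x ∉ Set.range σ) (hxA : x ∈ A.1) : x ∈ X.basicOpen t := by
  by_contra h
  refine hx ?_
  have h1 : x ∈ σ.ker.support := by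
    rw [Scheme.IdealSheafData.mem_support_iff_of_mem hxA, ht, Scheme.zeroLocus_span, Scheme.mem_zeroLocus_iff]
    intro f hf
    rw [Set.mem_singleton_iff.1 hf]
    exact h
  have h2 : x ∈ closure (Set.range σ) := σ.support_ker.le h1
  rwa [σ.isClosedEmbedding.isClosed_range.closure_eq] at h2

variable (σ)

/-- the datum of a section on anything over the place where it has one equation -/
def secDat {A : X.affineOpens} {t : Γ(X, A.1)} (ht : σ.ker.ideal A = Ideal.span {t}) {Z : Scheme.{u}} (g : Z ⟶ X)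
    (hg : ∀ z, g z ∈ Set.range σ → g z ∈ A.1) : EtPBC.DivDat Z (g ⁻¹ᵁ offSec σ) (g ⁻¹ᵁ A.1) where
  cover z _ := by
    by_cases h : g z ∈ Set.range σ
    · exact Or.inr (hg z h)
    · exact Or.inl h
  a := g.app A.1 t
  unit := by
    have hu : IsUnit (X.presheaf.map (homOfLE (inf_le_right : offSec σ ⊓ A.1 ≤ A.1)).op t) := by
      refine RingedSpace.isUnit_of_isUnit_germ X.toSheafedSpace _ _ fun x hx => ?_
      erw [X.presheaf.germ_res_apply]
      exact (X.mem_basicOpen t x hx.2).1 (mem_basicOpen_of_notMem ht hx.1 hx.2)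
    have h := hu.map (g.app (offSec σ ⊓ A.1)).hom
    rw [← ConcreteCategory.comp_apply, g.naturality (homOfLE inf_le_right).op, ConcreteCategory.comp_apply] at h
    exact h

variable {σ}

/-- **on a geometric fibre the equation of a section is the equation of a point** -/
theorem exists_fibre_point (f : X ⟶ S) (hσ : σ ≫ f = 𝟙 S) {A : X.affineOpens} {t : Γ(X, A.1)}
    (ht : σ.ker.ideal A = Ideal.span {t}) {Z : Scheme.{u}} (g : Z ⟶ X)
    (hg : ∀ z, g z ∈ Set.range σ → g z ∈ A.1) {Ω : Type u} [Field Ω] (ξ : Spec (CommRingCat.of Ω) ⟶ S)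
    {C : Scheme.{u}} (jj : C ⟶ Z) (c : C ⟶ Spec (CommRingCat.of Ω)) [IsSeparated c]
    (sq : IsPullback (jj ≫ g) c f ξ) :
    ∃ (y : C) (hy : IsClosed ({y} : Set C)), jj ⁻¹ᵁ (g ⁻¹ᵁ offSec σ) = EtPBC.compl₁ hy ∧
      ((secDat σ ht g hg).pull jj).GenAt y := by
  let j := jj ≫ g
  let σΩ : Spec (CommRingCat.of Ω) ⟶ C :=
    sq.lift (ξ ≫ σ) (𝟙 _) (by rw [Category.assoc, hσ, Category.comp_id, Category.id_comp])
  have hfst : σΩ ≫ j = ξ ≫ σ := sq.lift_fst _ _ _
  have hsnd : σΩ ≫ c = 𝟙 _ := sq.lift_snd _ _ _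
  haveI : IsClosedImmersion (σΩ ≫ c) := by rw [hsnd]; infer_instance
  haveI : IsClosedImmersion σΩ := IsClosedImmersion.of_comp σΩ c
  have hsq : IsPullback σΩ ξ j σ := by
    refine IsPullback.of_right (h₁₂ := c) (h₂₂ := f) (v₁₃ := ξ) ?_ hfst sq.flip
    rw [hsnd, hσ]
    exact IsPullback.of_id_fst
  have hker : σΩ.ker = σ.ker.comap j := by
    rw [← Scheme.IdealSheafData.ker_fst_of_isClosedImmersion, ← hsq.isoPullback_hom_fst,
      Scheme.Hom.ker_comp_of_isIso]
  let y : C := σΩ default
  have hrange : Set.range σΩ = {y} := Set.range_unique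
  have hy : IsClosed ({y} : Set C) := hrange ▸ σΩ.isClosedEmbedding.isClosed_range
  have hpre : ∀ z : C, j z ∈ Set.range σ ↔ z = y := by
    intro z
    have h : z ∈ σΩ.ker.support ↔ j z ∈ σ.ker.support := by
      rw [hker, Scheme.IdealSheafData.support_comap]; rfl
    have e₁ : (σΩ.ker.support : Set C) = {y} := by
      rw [σΩ.support_ker]
      show closure (Set.range σΩ) = {y}
      rw [hrange, hy.closure_eq]
    have e₂ : (σ.ker.support : Set X) = Set.range σ := by
      rw [σ.support_ker]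
      exact σ.isClosedEmbedding.isClosed_range.closure_eq
    rw [← SetLike.mem_coe, ← SetLike.mem_coe, e₁, e₂] at h
    exact h.symm
  refine ⟨y, hy, Opens.ext (Set.ext fun z => (hpre z).not), ?_⟩
  have hyA : y ∈ jj ⁻¹ᵁ (g ⁻¹ᵁ A.1) := hg (jj y) ((hpre y).2 rfl)
  refine ⟨hyA, ?_⟩
  obtain ⟨B, hB, hyB, hBA⟩ := exists_isAffineOpen_mem_and_subset (U := j ⁻¹ᵁ A.1) (x := y) hyA
  have hI : σΩ.ker.ideal ⟨B, hB⟩ = Ideal.span {j.appLE A.1 B hBA t} := by
    rw [hker, FpqcDescent.ideal_comap_appLE σ.ker j A ⟨B, hB⟩ hBA, ht, Ideal.map_span, Set.image_singleton]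
  let p := hB.primeIdealOf ⟨y, hyB⟩
  letI : Algebra Γ(C, B) (C.presheaf.stalk y) := TopCat.Presheaf.algebra_section_stalk C.presheaf ⟨y, hyB⟩
  haveI : IsLocalization.AtPrime (C.presheaf.stalk y) p.asIdeal := hB.isLocalization_stalk ⟨y, hyB⟩
  have hp : p.asIdeal = σΩ.ker.ideal ⟨B, hB⟩ := by
    ext s
    rw [Scheme.Hom.ker_apply, RingHom.mem_ker]
    have h1 : s ∉ p.asIdeal ↔ y ∈ C.basicOpen s := by
      rw [C.mem_basicOpen s y hyB]
      exact (IsLocalization.AtPrime.isUnit_to_map_iff (C.presheaf.stalk y) p.asIdeal s).symm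
    have htop : σΩ ⁻¹ᵁ B = ⊤ := top_unique fun z _ => (show σΩ z ∈ B by rw [Subsingleton.elim z default]; exact hyB)
    have h2 : y ∈ C.basicOpen s ↔ σΩ.app B s ≠ 0 := by
      constructor
      · intro hmem h0
        have hmem' : default ∈ σΩ ⁻¹ᵁ C.basicOpen s := hmem
        rw [Scheme.preimage_basicOpen, show (σΩ.app B).hom s = 0 from h0, Scheme.basicOpen_zero] at hmem'
        exact hmem'
      · intro h0
        have hu : IsUnit (σΩ.app B s) := by
          let e : Γ(Spec (CommRingCat.of Ω), σΩ ⁻¹ᵁ B) ≅ CommRingCat.of Ω :=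
            (Spec (CommRingCat.of Ω)).presheaf.mapIso (eqToIso htop.symm).op ≪≫
              Scheme.ΓSpecIso (CommRingCat.of Ω)
          have h3 : IsUnit (e.hom.hom (σΩ.app B s)) := by
            refine isUnit_iff_ne_zero.2 fun h => h0 ?_
            have := congrArg e.inv.hom h
            rwa [map_zero, ← ConcreteCategory.comp_apply, e.hom_inv_id] at this
          exact (MulEquiv.isUnit_map e.commRingCatIsoToRingEquiv).1 h3
        have hmem : default ∈ (Spec (CommRingCat.of Ω)).basicOpen (σΩ.app B s) := by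
          rw [Scheme.basicOpen_of_isUnit _ hu, htop]; trivial
        rw [← Scheme.preimage_basicOpen] at hmem
        exact hmem
    rw [← not_iff_not, h1, h2]
  show maximalIdeal (C.presheaf.stalk y) = Ideal.span {C.presheaf.germ _ y hyA (jj.app (g ⁻¹ᵁ A.1) (g.app A.1 t))}
  rw [← IsLocalization.AtPrime.map_eq_maximalIdeal p.asIdeal (C.presheaf.stalk y), hp, hI, Ideal.map_span,
    Set.image_singleton]
  refine congrArg (fun a => Ideal.span ({a} : Set (C.presheaf.stalk y))) ?_
  show C.presheaf.germ B y hyB ((j.app A.1 ≫ C.presheaf.map (homOfLE hBA).op) t) = _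
  rw [ConcreteCategory.comp_apply]
  erw [C.presheaf.germ_res_apply]
  rfl

end Groth.Agent.EtR2
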