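import Groth.Agent.EtR2.Fibre
import Groth.Agent.EtR2.Section
import Groth.Agent.EtR2.Inj
import Groth.Agent.SmSect.Basic
import Groth.Agent.SectCartier.Basic
import Mathlib

/-!
Classes which restrict to the point class on every geometric fibre.
-/

set_option autoImplicit false
set_option backward.isDefEq.respectTransparency false
set_option backward.isDefEq.respectTransparency.types false
set_option linter.style.haveILetI false
set_option linter.auxLemma false
set_option maxHeartbeats 1000000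
set_option synthInstance.maxHeartbeats 400000

universe u

open CategoryTheory CategoryTheory.Limits CategoryTheory.Abelian AlgebraicGeometry Opposite IsLocalRing TopologicalSpace

noncomputable section

namespace Groth.Agent.EtR2

attribute [local instance 100000] EtCoh.H._proof_1 EtMV.hext
attribute [local instance 200000] EtMV.hextAb

variable {X S : Scheme.{u}} (f : X ⟶ S)

/-- the projection of a piece -/
abbrev pr (U : S.Etale) : (pc f U).left ⟶ U.left := pullback.fst U.hom f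

/-- restriction on pieces, as schemes -/
abbrev pm {U' U : S.Etale} (a : U' ⟶ U) : (pc f U').left ⟶ (pc f U).left := ((EtCoh.bc f).map a).left

theorem isPullback_pm {U' U : S.Etale} (a : U' ⟶ U) : IsPullback (pm f a) (pr f U') (pr f U) a.left :=
  EtCoh.isPullback_bc_map f a

theorem isPullback_pr (U : S.Etale) : IsPullback (pc f U).hom (pr f U) f U.hom :=
  (IsPullback.of_hasPullback U.hom f).flip

theorem pm_w {U' U : S.Etale} (a : U' ⟶ U) : pm f a ≫ (pc f U).hom = (pc f U').hom :=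
  MorphismProperty.Over.w ((EtCoh.bc f).map a)

variable (n : ℕ)

theorem rμ_congr (q : ℕ) {Z : Scheme.{u}} (g : Z ⟶ X) [PreservesFiniteLimits (EtCoh.pull g)] (V : X.Etale)
    {g' g'' : Z ⟶ V.left} (h : g' = g'') (w : g' ≫ V.hom = g) (w' : g'' ≫ V.hom = g)
    (x : Ext ((EtMV.P X).obj V) (EtCoh.mu X n) q) : rμ n q g V g' w x = rμ n q g V g'' w' x := by
  subst h; rfl

/-- a class which is the point class on each geometric fibre -/
def Good (U : S.Etale) (x : Ext ((EtMV.P X).obj (pc f U)) (EtCoh.mu X n) 2) : Prop :=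
  ∀ (Ω : Type u) [Field Ω] [IsAlgClosed Ω] (ξ : Spec (CommRingCat.of Ω) ⟶ U.left) (C : Scheme.{u})
    (g' : C ⟶ (pc f U).left) (c : C ⟶ Spec (CommRingCat.of Ω)) (_ : IsPullback g' c (pr f U) ξ)
    (g : C ⟶ X) (w : g' ≫ (pc f U).hom = g) [PreservesFiniteLimits (EtCoh.pull g)] (hu : IsUnit (n : Γ(C, ⊤)))
    (y : C) (hy : IsClosed ({y} : Set C)) (U' : C.Opens) (E : EtPBC.DivDat C (EtPBC.compl₁ hy) U'),
      E.GenAt y → rμ n 2 g (pc f U) g' w x = dμ hu E.cls

variable {f n}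

theorem Good.restrict {U' U : S.Etale} (a : U' ⟶ U) {x : Ext ((EtMV.P X).obj (pc f U)) (EtCoh.mu X n) 2}
    (hx : Good f n U x) : Good f n U' (rsC (EtCoh.mu X n) ((EtCoh.bc f).map a) x) := by
  intro Ω _ _ ξ C g' c sq g w _ hu y hy V E hE
  refine (rμ_res n 2 g ((EtCoh.bc f).map a) g' w ?_ x).trans ?_
  · exact (Category.assoc _ _ _).trans ((congrArg (g' ≫ ·) (pm_w f a)).trans w)
  · exact hx Ω (ξ ≫ a.left) C _ c (sq.paste_horiz (isPullback_pm f a)) g _ hu y hy V E hE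

variable (f n)

theorem isUnit_pull {Z : Scheme.{u}} (g : Z ⟶ S) (hn : IsUnit (n : Γ(S, ⊤))) : IsUnit (n : Γ(Z, ⊤)) := by
  have h := hn.map g.appTop.hom
  rwa [map_natCast] at h

variable [IsProper f] [SmoothOfRelativeDimension 1 f]

instance (U : S.Etale) : IsProper (pr f U) :=
  MorphismProperty.of_isPullback (P := @IsProper) (isPullback_pr f U) ‹_›

theorem smooth_of_sq {C T : Scheme.{u}} {j : C ⟶ X} {c : C ⟶ T} {ξ : T ⟶ S} (sq : IsPullback j c f ξ) :
    SmoothOfRelativeDimension 1 c :=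
  haveI : MorphismProperty.IsStableUnderBaseChange (@SmoothOfRelativeDimension 1) :=
    smoothOfRelativeDimension_isStableUnderBaseChange 1
  MorphismProperty.of_isPullback (P := @SmoothOfRelativeDimension 1) sq ‹_›

variable (hirr : ∀ (Ω : Type u) [Field Ω] [IsSepClosed Ω] (s : Spec (CommRingCat.of Ω) ⟶ S),
  IrreducibleSpace ↑(pullback f s))

include hirr in
theorem irreducible_of_sq {C : Scheme.{u}} {Ω : Type u} [Field Ω] [IsSepClosed Ω] {j : C ⟶ X}
    {c : C ⟶ Spec (CommRingCat.of Ω)} {ξ : Spec (CommRingCat.of Ω) ⟶ S} (sq : IsPullback j c f ξ) :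
    IrreducibleSpace C := by
  haveI := hirr Ω ξ
  let φ := sq.isoPullback.inv
  have h := (IrreducibleSpace.isIrreducible_univ ↑(pullback f ξ)).image φ φ.continuous.continuousOn
  rw [Set.image_univ, show Set.range φ = Set.univ from φ.homeomorph.surjective.range_eq] at h
  exact { isPreirreducible_univ := h.2, toNonempty := h.1.to_subtype.map Subtype.val }

omit [IsProper f] [SmoothOfRelativeDimension 1 f] in
theorem sq_to_base {U : S.Etale} {C : Scheme.{u}} {T : Scheme.{u}} {g' : C ⟶ (pc f U).left} {c : C ⟶ T}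
    {ξ : T ⟶ U.left} (sq : IsPullback g' c (pr f U) ξ) :
    IsPullback (g' ≫ (pc f U).hom) c f (ξ ≫ U.hom) :=
  sq.paste_horiz (isPullback_pr f U)

/-- a curve has a point with an equation -/
theorem exists_pt {Ω : Type u} [Field Ω] [IsAlgClosed Ω] {C : Scheme.{u}} (c : C ⟶ Spec (CommRingCat.of Ω))
    [IsProper c] [SmoothOfRelativeDimension 1 c] [IrreducibleSpace C] :
    ∃ (y : C) (hy : IsClosed ({y} : Set C)) (V : C.Opens) (E : EtPBC.DivDat C (EtPBC.compl₁ hy) V), E.GenAt y := by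
  haveI := isIntegral_of_curve c
  haveI : CompactSpace C := QuasiCompact.compactSpace_of_compactSpace c
  obtain ⟨hdim, hreg⟩ := curve_facts c
  obtain ⟨y, -, hy⟩ := IsClosed.exists_closed_singleton (isClosed_univ (X := C)) Set.univ_nonempty
  have hne : y ≠ genericPoint C := by
    intro h
    have hsing : (Set.univ : Set C) = {y} := by
      rw [← hy.closure_eq, h, (genericPoint_spec C).def]
    haveI : Subsingleton C := ⟨fun p q => (Set.mem_singleton_iff.1 (hsing ▸ Set.mem_univ p)).trans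
      (Set.mem_singleton_iff.1 (hsing ▸ Set.mem_univ q)).symm⟩
    have h2 := topologicalKrullDim_zero_of_discreteTopology C
    rw [hdim] at h2
    exact absurd h2 (by norm_num)
  obtain ⟨V, E, hE⟩ := EtPBC.exists_pt_dat c hdim.le hreg hy hne
  exact ⟨y, hy, V, E, hE⟩

omit [IsProper f] [SmoothOfRelativeDimension 1 f] in
theorem muH_eq_zero {Y Z : Scheme.{u}} (m q : ℕ) (g : Z ⟶ Y) [PreservesFiniteLimits (EtCoh.pull g)]
    (z : EtCoh.H Y (EtCoh.mu Y m) q) (h : EtCore.Hpull g (EtCoh.mu Y m) q z = 0) : muH m q g z = 0 :=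
  (congrArg ((Ext.mk₀ (muCmp g m)).postcomp (EtCoh.const Z ℤ) (add_zero q)) h).trans (map_zero _)

omit [IsProper f] [SmoothOfRelativeDimension 1 f] in
/-- pull-back of the class on the piece itself -/
theorem muH_self {V : X.Etale} [PreservesFiniteLimits (EtCoh.pull V.hom)] {Z : Scheme.{u}} (q : Z ⟶ V.left)
    [PreservesFiniteLimits (EtCoh.pull q)] (g : Z ⟶ X) (w : q ≫ V.hom = g) [PreservesFiniteLimits (EtCoh.pull g)]
    (x : Ext ((EtMV.P X).obj V) (EtCoh.mu X n) 2) :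
    muH n 2 q (rμ n 2 V.hom V (𝟙 V.left) (Category.id_comp _) x) = rμ n 2 g V q w x :=
  (muH_rμ n 2 q V.hom g w V (𝟙 _) (Category.id_comp _) ((congrArg (· ≫ V.hom) (Category.comp_id q)).trans w) x).trans
    (rμ_congr n 2 g V (Category.comp_id q) _ w x)

omit [IsProper f] [SmoothOfRelativeDimension 1 f] in
theorem rμ_eq_zero_of_factor {V : X.Etale} {Z W : Scheme.{u}} (ι : W ⟶ Z) (g : Z ⟶ X) (k : W ⟶ X) (w : ι ≫ g = k)
    [PreservesFiniteLimits (EtCoh.pull ι)] [PreservesFiniteLimits (EtCoh.pull g)] [PreservesFiniteLimits (EtCoh.pull k)]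
    (g' : Z ⟶ V.left) (hg : g' ≫ V.hom = g) (hk : (ι ≫ g') ≫ V.hom = k)
    (x : Ext ((EtMV.P X).obj V) (EtCoh.mu X n) 2) (h : rμ n 2 g V g' hg x = 0) :
    rμ n 2 k V (ι ≫ g') hk x = 0 :=
  (muH_rμ n 2 ι g k w V g' hg hk x).symm.trans ((congrArg (muH n 2 ι) h).trans (map_zero _))

omit [IsProper f] [SmoothOfRelativeDimension 1 f] in
theorem eq_zero_of_rμ {V : X.Etale} [PreservesFiniteLimits (EtCoh.pull V.hom)]
    (x : Ext ((EtMV.P X).obj V) (EtCoh.mu X n) 2) (h : rμ n 2 V.hom V (𝟙 V.left) (Category.id_comp _) x = 0) :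
    x = 0 :=
  (injective_iff_map_eq_zero (rμ n 2 V.hom V (𝟙 V.left) (Category.id_comp _))).1 (rμ_bijective n 2 V).1 x h

omit [IsProper f] [SmoothOfRelativeDimension 1 f] in
/-- a class killed on a scheme through which a restriction factors restricts to zero -/
theorem rsC_eq_zero_of_factor {V' V : X.Etale} (a : V' ⟶ V) (x : Ext ((EtMV.P X).obj V) (EtCoh.mu X n) 2)
    [PreservesFiniteLimits (EtCoh.pull V.hom)] [PreservesFiniteLimits (EtCoh.pull V'.hom)]
    {Z : Scheme.{u}} (g : Z ⟶ X) (q : Z ⟶ V.left) (hg : q ≫ V.hom = g) (l : V'.left ⟶ Z) (hl : l ≫ q = a.left)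
    (hk : (l ≫ q) ≫ V.hom = V'.hom) (hlg : l ≫ g = V'.hom)
    [PreservesFiniteLimits (EtCoh.pull g)] [PreservesFiniteLimits (EtCoh.pull l)]
    (h : rμ n 2 g V q hg x = 0) :
    rμ n 2 V'.hom V (l ≫ q) hk x = 0 :=
  rμ_eq_zero_of_factor n l g V'.hom hlg q hg hk x h

omit [IsProper f] [SmoothOfRelativeDimension 1 f] in
theorem rsC_eq_zero_of_factor2 {V' V : X.Etale} (a : V' ⟶ V) (x : Ext ((EtMV.P X).obj V) (EtCoh.mu X n) 2)
    [PreservesFiniteLimits (EtCoh.pull V'.hom)] (m : V'.left ⟶ V.left) (hm : m = a.left) (w : m ≫ V.hom = V'.hom)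
    (h : rμ n 2 V'.hom V m w x = 0) : rsC (EtCoh.mu X n) a x = 0 := by
  show (Ext.mk₀ ((EtMV.P X).map a)).comp x (zero_add 2) = 0
  refine eq_zero_of_rμ n _ ?_
  refine (rμ_res n 2 V'.hom a (𝟙 _) (Category.id_comp _)
    ((congrArg (· ≫ V.hom) (Category.id_comp _)).trans (MorphismProperty.Over.w a)) x).trans ?_
  exact (rμ_congr n 2 _ _ ((Category.id_comp _).trans hm.symm) _ w x).trans h

omit [IsProper f] [SmoothOfRelativeDimension 1 f] in
theorem rsC_eq_zero_of_muH {V' V : X.Etale} (a : V' ⟶ V) (x : Ext ((EtMV.P X).obj V) (EtCoh.mu X n) 2)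
    [PreservesFiniteLimits (EtCoh.pull V.hom)]
    {Z : Scheme.{u}} (g : Z ⟶ X) (q : Z ⟶ V.left) (hg : q ≫ V.hom = g) (l : V'.left ⟶ Z) (hl : l ≫ q = a.left)
    [PreservesFiniteLimits (EtCoh.pull q)]
    (h : muH n 2 q (rμ n 2 V.hom V (𝟙 _) (Category.id_comp _) x) = 0) :
    rsC (EtCoh.mu X n) a x = 0 := by
  haveI := EtPullExact.pull_preservesFiniteLimits V'.hom
  haveI := EtPullExact.pull_preservesFiniteLimits l
  haveI := EtPullExact.pull_preservesFiniteLimits g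
  have h' : rμ n 2 g V q hg x = 0 := (muH_self n q g hg x).symm.trans h
  have hk : (l ≫ q) ≫ V.hom = V'.hom := (congrArg (· ≫ V.hom) hl).trans (MorphismProperty.Over.w a)
  have hlg : l ≫ g = V'.hom := by rw [← hg, ← Category.assoc]; exact hk
  exact rsC_eq_zero_of_factor2 n a x (l ≫ q) hl hk
    (rsC_eq_zero_of_factor n a x g q hg l hl hk hlg h')

omit [IsProper f] [SmoothOfRelativeDimension 1 f] in
theorem rsC_eq_zero_pc {U' U : S.Etale} (a : U' ⟶ U) (x : Ext ((EtMV.P X).obj (pc f U)) (EtCoh.mu X n) 2)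
    [PreservesFiniteLimits (EtCoh.pull (pc f U).hom)]
    {Z : Scheme.{u}} (g : Z ⟶ X) (q : Z ⟶ (pc f U).left) (hg : q ≫ (pc f U).hom = g) (l : (pc f U').left ⟶ Z)
    (hl : l ≫ q = pm f a) [PreservesFiniteLimits (EtCoh.pull q)]
    (h : muH n 2 q (rμ n 2 (pc f U).hom (pc f U) (𝟙 _) (Category.id_comp _) x) = 0) :
    rsC (EtCoh.mu X n) ((EtCoh.bc f).map a) x = 0 :=
  rsC_eq_zero_of_muH n ((EtCoh.bc f).map a) x g q hg l hl h

omit [SmoothOfRelativeDimension 1 f] in
/-- **a class killed on a geometric fibre is killed near it** -/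
theorem exists_rsC_eq_zero (hn₁ : 1 ≤ n) (U : S.Etale) (r : EtPBC.KRoot U.left n)
    (x : Ext ((EtMV.P X).obj (pc f U)) (EtCoh.mu X n) 2) {Ω : Type u} [Field Ω] [IsAlgClosed Ω]
    (ξ : Spec (CommRingCat.of Ω) ⟶ U.left)
    [PreservesFiniteLimits (EtCoh.pull (pullback.fst (pr f U) ξ ≫ (pc f U).hom))]
    (h : rμ n 2 (pullback.fst (pr f U) ξ ≫ (pc f U).hom) (pc f U) (pullback.fst (pr f U) ξ) rfl x = 0) :
    ∃ (W : S.Etale) (a : W ⟶ U), ξ (closedPoint Ω) ∈ Set.range a.left ∧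
      rsC (EtCoh.mu X n) ((EtCoh.bc f).map a) x = 0 := by
  haveI := EtPullExact.pull_preservesFiniteLimits (pc f U).hom
  haveI := EtPullExact.pull_preservesFiniteLimits (pullback.fst (pr f U) ξ)
  replace h := (muH_self n (pullback.fst (pr f U) ξ) _ rfl x).trans h
  have h2 := Hpull_eq_zero_of_muH (r.pull (pr f U)) (pullback.fst (pr f U) ξ) 2 _ h
  obtain ⟨W₂, w₂, hw₂, hW₂⟩ := exists_nhd_eq_zero (pr f U) (EtCoh.mu (pc f U).left n) (isLTorsion_mu _ n hn₁) 2 _ ξ h2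
  haveI : Etale (W₂.hom ≫ U.hom) := inferInstance
  let a : Scheme.Etale.mk (W₂.hom ≫ U.hom) ⟶ U := MorphismProperty.Over.homMk W₂.hom rfl
  haveI := EtPullExact.pull_preservesFiniteLimits ((EtCoh.bc (pr f U)).obj W₂).hom
  obtain ⟨g, hg⟩ : ∃ g, ((EtCoh.bc (pr f U)).obj W₂).hom ≫ (pc f U).hom = g := ⟨_, rfl⟩
  obtain ⟨l, hl⟩ : ∃ l : (pc f (Scheme.Etale.mk (W₂.hom ≫ U.hom))).left ⟶ ((EtCoh.bc (pr f U)).obj W₂).left,
      l ≫ ((EtCoh.bc (pr f U)).obj W₂).hom = pm f a :=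
    ⟨pullback.lift (pr f _) (pm f a) (isPullback_pm f a).w.symm, pullback.lift_snd _ _ _⟩
  have h0 : muH n 2 ((EtCoh.bc (pr f U)).obj W₂).hom
      (rμ n 2 (pc f U).hom (pc f U) (𝟙 _) (Category.id_comp _) x) = 0 := muH_eq_zero n 2 _ _ hW₂
  exact ⟨_, a, ⟨w₂, hw₂⟩, rsC_eq_zero_pc f n a x g ((EtCoh.bc (pr f U)).obj W₂).hom hg l hl h0⟩

include hirr in
/-- **good classes exist locally** -/
theorem exists_good (hn : IsUnit (n : Γ(S, ⊤))) (hn₁ : 1 ≤ n) (U : S.Etale) (u : U.left) :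
    ∃ (W : S.Etale) (a : W ⟶ U) (x : Ext ((EtMV.P X).obj (pc f W)) (EtCoh.mu X n) 2),
      u ∈ Set.range a.left ∧ Good f n W x := by
  haveI : SmoothOfRelativeDimension 1 (pr f U) := smooth_of_sq f (isPullback_pr f U)
  haveI : Smooth (pr f U) := SmoothOfRelativeDimension.smooth 1 _
  obtain ⟨v, hv⟩ : ∃ v, pr f U v = u := by
    let Ω := AlgebraicClosure (U.left.residueField u)
    let ξ : Spec (CommRingCat.of Ω) ⟶ U.left :=
      Spec.map (CommRingCat.ofHom (algebraMap (U.left.residueField u) Ω)) ≫ U.left.fromSpecResidueField u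
    haveI := irreducible_of_sq f hirr (sq_to_base f (IsPullback.of_hasPullback (pr f U) ξ))
    obtain ⟨v⟩ := (inferInstance : Nonempty ↥(pullback (pr f U) ξ))
    refine ⟨pullback.fst (pr f U) ξ v, ?_⟩
    rw [← Scheme.Hom.comp_apply, pullback.condition, Scheme.Hom.comp_apply, Scheme.Hom.comp_apply]
    exact Scheme.fromSpecResidueField_apply u _
  obtain ⟨S', g, s', hg, hs', h, hh⟩ := SmSect.exists_etale_section (pr f U) v
  haveI : Etale (g ≫ U.hom) := inferInstance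
  let U₁ : S.Etale := Scheme.Etale.mk (g ≫ U.hom)
  let a₁ : U₁ ⟶ U := MorphismProperty.Over.homMk g rfl
  let σ : U₁.left ⟶ (pc f U₁).left := (isPullback_pm f a₁).lift h (𝟙 _) (hh.trans (Category.id_comp _).symm)
  have hσ : σ ≫ pr f U₁ = 𝟙 _ := (isPullback_pm f a₁).lift_snd _ _ _
  haveI : SmoothOfRelativeDimension 1 (pr f U₁) := smooth_of_sq f (isPullback_pr f U₁)
  haveI : IsClosedImmersion (σ ≫ pr f U₁) := by rw [hσ]; infer_instance
  haveI : IsClosedImmersion σ := IsClosedImmersion.of_comp σ (pr f U₁)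
  obtain ⟨A, hA, t, -, ht⟩ := SectCartier.isEffCartierIdeal_ker (pr f U₁) σ hσ (σ s')
  let W₀ : U₁.left.Opens := σ ⁻¹ᵁ A.1
  haveI : Etale (W₀.ι ≫ U₁.hom) := inferInstance
  let W : S.Etale := Scheme.Etale.mk (W₀.ι ≫ U₁.hom)
  let b : W ⟶ U₁ := MorphismProperty.Over.homMk W₀.ι rfl
  let g₂ := pm f b
  have hcov : ∀ z, g₂ z ∈ Set.range σ → g₂ z ∈ A.1 := by
    rintro z ⟨s, hs⟩
    have h1 : s = W₀.ι (pr f W z) := by
      have e1 : pr f U₁ (σ s) = s := by rw [← Scheme.Hom.comp_apply, hσ]; rfl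
      rw [← e1, hs, ← Scheme.Hom.comp_apply, (isPullback_pm f b).w]
      rfl
    rw [← hs, h1]
    exact (pr f W z).2
  let D := secDat σ ht g₂ hcov
  haveI := EtPullExact.pull_preservesFiniteLimits (pc f W).hom
  have hu₂ : IsUnit (n : Γ((pc f W).left, ⊤)) := isUnit_pull n (pr f W ≫ W.hom) hn
  obtain ⟨x, hx⟩ := (rμ_bijective n 2 (pc f W)).2 (dμ hu₂ D.cls)
  refine ⟨W, b ≫ a₁, x, ⟨⟨s', hA⟩, hs'.trans hv⟩, ?_⟩
  intro Ω _ _ ξ C g' c sq k w _ hu y hy V E hE
  haveI := EtPullExact.pull_preservesFiniteLimits g'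
  have hb : g' ≫ 𝟙 (pc f W).left = g' := Category.comp_id _
  have h1 : muH n 2 g' (dμ hu₂ D.cls) = rμ n 2 k (pc f W) g' w x := by
    rw [← hx]
    refine (muH_rμ n 2 g' (pc f W).hom k w (pc f W) (𝟙 _) (Category.id_comp _) (by rw [hb]; exact w) x).trans ?_
    simp only [Category.comp_id]
    rfl
  rw [← h1, muH_dμ g' hu₂ hu, EtPBC.DivDat.gmH_cls]
  have hsqS := sq_to_base f sq
  haveI : IsProper c := MorphismProperty.of_isPullback (P := @IsProper) hsqS ‹_›
  haveI := smooth_of_sq f hsqS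
  haveI := irreducible_of_sq f hirr hsqS
  haveI := isIntegral_of_curve c
  obtain ⟨y₀, hy₀, hV₀, hgen⟩ := exists_fibre_point (pr f U₁) hσ ht g₂ hcov (ξ ≫ b.left) g' c
    (sq.paste_horiz (isPullback_pm f b))
  have hnΩ : (n : Ω) ≠ 0 := by
    have h := (isUnit_pull n (ξ ≫ W.hom) hn).map (Scheme.ΓSpecIso (CommRingCat.of Ω)).hom.hom
    rw [map_natCast] at h
    exact h.ne_zero
  suffices key : ∀ (V' U' : C.Opens) (E' : EtPBC.DivDat C V' U'), V' = EtPBC.compl₁ hy₀ → E'.GenAt y₀ →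
      dμ hu E'.cls = dμ hu E.cls from key _ _ _ hV₀ hgen
  intro V' U' E' hV' hE'
  subst hV'
  exact point_class_eq c hn₁ hnΩ hu hy₀ hy E' hE' E hE

end Groth.Agent.EtR2
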