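import Groth.Agent.EtR2.Res
import Groth.Agent.EtPBC.KummerH2
import Groth.Agent.S0108
import Mathlib

/-!
The Kummer boundary with values in roots of unity.
-/

set_option autoImplicit false
set_option backward.isDefEq.respectTransparency false
set_option backward.isDefEq.respectTransparency.types false
set_option linter.style.haveILetI false
set_option linter.auxLemma false
set_option maxHeartbeats 1000000

universe u

open CategoryTheory CategoryTheory.Limits CategoryTheory.Abelian AlgebraicGeometry Opposite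
open Groth.Agent.EtFLC (res res_res res_id)
open Groth.Agent.EtPicLib (uval uval_res uval_injective)

noncomputable section

namespace Groth.Agent.EtR2

attribute [local instance 100000] EtCoh.H._proof_1 EtMV.hext
attribute [local instance 200000] EtMV.hextAb

variable {X Z : Scheme.{u}} {n : ℕ}

/-- the Kummer sequence -/
def muSeq (X : Scheme.{u}) (n : ℕ) : ShortComplex (EtCoh.Ab X) :=
  ShortComplex.mk (EtCoh.muι X n) (EtCoh.powMap X n) (kernel.condition _)

theorem muSeq_shortExact (hu : IsUnit (n : Γ(X, ⊤))) : (muSeq X n).ShortExact :=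
  { exact := ShortComplex.exact_of_f_is_kernel _ (kernelIsKernel (EtCoh.powMap X n))
    mono_f := inferInstanceAs (Mono (kernel.ι (EtCoh.powMap X n)))
    epi_g := Groth.Agent.S0108.result X n hu }

/-- the Kummer boundary -/
def dμ (hu : IsUnit (n : Γ(X, ⊤))) : EtPBC.H1g X →+ EtCoh.H X (EtCoh.mu X n) 2 where
  toFun d := ((Ext.mk₀ (EtPBC.topIso' X).hom).comp d (zero_add 1)).comp (muSeq_shortExact hu).extClass
    (rfl : 1 + 1 = 2)
  map_zero' := by rw [Ext.comp_zero, Ext.zero_comp]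
  map_add' a b := by rw [Ext.comp_add, Ext.add_comp]

theorem dμ_eq_dK (r : EtPBC.KRoot X n) (d : EtPBC.H1g X) :
    dμ r.unit d = Ext.comp (r.dK d) (Ext.mk₀ r.iso.hom) (add_zero 2) := by
  let ψ : r.seq ⟶ muSeq X n :=
    { τ₁ := r.iso.hom
      τ₂ := 𝟙 _
      τ₃ := 𝟙 _
      comm₁₂ := (Category.comp_id _).symm
      comm₂₃ := (Category.id_comp _).trans (Category.comp_id _).symm }
  have h := ShortComplex.ShortExact.extClass_naturality r.seq_shortExact (muSeq_shortExact r.unit) ψ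
  show Ext.comp ((Ext.mk₀ (EtPBC.topIso' X).hom).comp d (zero_add 1)) (muSeq_shortExact r.unit).extClass
      (rfl : 1 + 1 = 2) =
    Ext.comp (Ext.comp ((Ext.mk₀ (EtPBC.topIso' X).hom).comp d (zero_add 1)) r.seq_shortExact.extClass
      (rfl : 1 + 1 = 2)) (Ext.mk₀ r.iso.hom) (add_zero 2)
  rw [Ext.comp_assoc_of_third_deg_zero]
  congr 1
  refine Eq.trans ?_ h.symm
  exact (Ext.mk₀_id_comp _).symm

/-- **the Kummer boundary commutes with pull-back** -/
theorem muH_dμ (i : Z ⟶ X) [PreservesFiniteLimits (EtCoh.pull i)] (hu : IsUnit (n : Γ(X, ⊤)))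
    (huZ : IsUnit (n : Γ(Z, ⊤))) (d : EtPBC.H1g X) :
    muH n 2 i (dμ hu d) = dμ huZ (EtPBC.gmH i d) := by
  haveI : (EtCoh.pull i).Additive := (EtCoh.pullPushAdj i).left_adjoint_additive
  let ψ : (muSeq X n).map (EtCoh.pull i) ⟶ muSeq Z n :=
    { τ₁ := muCmp i n
      τ₂ := EtPBC.gmCmp i
      τ₃ := EtPBC.gmCmp i
      comm₁₂ := muCmp_muι i n
      comm₂₃ := by
        show EtPBC.gmCmp i ≫ (n • 𝟙 (EtCoh.Gm Z)) = (EtCoh.pull i).map (n • 𝟙 (EtCoh.Gm X)) ≫ EtPBC.gmCmp i
        rw [Preadditive.comp_nsmul, Category.comp_id, Functor.map_nsmul, CategoryTheory.Functor.map_id,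
          Preadditive.nsmul_comp, Category.id_comp] }
  let dX : EtCoh.H X (EtCoh.Gm X) 1 := (Ext.mk₀ (EtPBC.topIso' X).hom).comp d (zero_add 1)
  have h2 : EtCore.Hpull i (EtCoh.mu X n) 2 (dμ hu d) =
      Ext.comp (EtCore.Hpull i (EtCoh.Gm X) 1 dX) ((muSeq_shortExact hu).map_of_exact (EtCoh.pull i)).extClass
        (rfl : 1 + 1 = 2) := by
    show EtMV.T (EtCoh.pull i) (EtCore.pullConst i ℤ).inv _ 2
      (Ext.comp dX (muSeq_shortExact hu).extClass (rfl : 1 + 1 = 2)) = _
    rw [EtMV.T_comp, Ext.mapExactFunctor_extClass]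
    rfl
  show Ext.comp (EtCore.Hpull i (EtCoh.mu X n) 2 (dμ hu d)) (Ext.mk₀ (muCmp i n)) (add_zero 2) = _
  rw [h2, Ext.comp_assoc_of_third_deg_zero,
    show ((muSeq_shortExact hu).map_of_exact (EtCoh.pull i)).extClass.comp
        (Ext.mk₀ (muCmp i n)) (add_zero 1) =
      (Ext.mk₀ (EtPBC.gmCmp i)).comp (muSeq_shortExact huZ).extClass (zero_add 1) from
        ShortComplex.ShortExact.extClass_naturality ((muSeq_shortExact hu).map_of_exact (EtCoh.pull i))
          (muSeq_shortExact huZ) ψ,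
    ← Ext.comp_assoc (EtCore.Hpull i (EtCoh.Gm X) 1 dX) (Ext.mk₀ (EtPBC.gmCmp i)) (muSeq_shortExact huZ).extClass
      (add_zero 1) (zero_add 1) rfl, EtPBC.Hpull_topIso']
  rfl

/-- the identifications with constant sheaves are compatible with pull-back -/
theorem muCmp_root (r : EtPBC.KRoot X n) (i : Z ⟶ X) :
    (EtCoh.pull i).map r.iso.hom ≫ muCmp i n = (EtCore.pullConst i (ZMod n)).hom ≫ (r.pull i).iso.hom := by
  haveI : Mono (EtCoh.muι Z n) := inferInstanceAs (Mono (kernel.ι (EtCoh.powMap Z n)))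
  refine (cancel_mono (EtCoh.muι Z n)).1 ?_
  rw [Category.assoc, muCmp_muι, ← Functor.map_comp_assoc, Category.assoc]
  have heX := (EtPBC.exists_kummer_const n r.one_le r.unit r.ζ r.cyclo).choose_spec
  have heZ := (EtPBC.exists_kummer_const n r.one_le (r.pull i).unit (r.pull i).ζ (r.pull i).cyclo).choose_spec
  apply ((EtCoh.pullPushAdj i).homEquiv (EtCoh.const X (ZMod n)) (EtCoh.Gm Z)).injective
  rw [Adjunction.homEquiv_unit, Adjunction.homEquiv_unit, Functor.map_comp (EtCoh.push i),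
    Functor.map_comp (EtCoh.push i), Adjunction.unit_naturality_assoc, EtPBC.unit_gmCmp, ← Category.assoc]
  refine EtPBC.const_hom_ext _ _ fun m => ?_
  obtain ⟨m, rfl⟩ := ZMod.intCast_surjective m
  show (EtPBC.gmPush i).hom.app _ (((EtCoh.muι X n).hom.app (op (EtCoh.top X))).hom
      (r.iso.hom.hom.app (op (EtCoh.top X)) (EtMV.cst (EtCoh.top X) (m : ZMod n)))) =
    ((r.pull i).iso.hom ≫ EtCoh.muι Z n).hom.app (op ((EtCoh.bc i).obj (EtCoh.top X)))
      ((EtMV.cUnit i (ZMod n)).hom.app (op (EtCoh.top X)) (EtMV.cst (EtCoh.top X) (m : ZMod n)))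
  rw [EtMV.cUnit_cst, ← EtMV.res_cst (EtMV.toTop ((EtCoh.bc i).obj (EtCoh.top X))) (m : ZMod n)]
  refine uval_injective (Eq.trans ?_
    (congrArg uval (EtFLC.app_res ((r.pull i).iso.hom ≫ EtCoh.muι Z n) _ _)).symm)
  rw [uval_res]
  show (pullback.fst (EtCoh.top X).hom i).appTop (uval _) =
    (EtMV.toTop ((EtCoh.bc i).obj (EtCoh.top X))).left.appTop (uval (((EtCoh.muι Z n).hom.app _).hom _))
  refine ((congrArg _ (heX m)).trans ?_).trans (congrArg _ (heZ m)).symm
  have hu' : Units.map i.appTop.hom.toMonoidHom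
      (Units.ofPowEqOne r.ζ n (EtPBC.zeta_pow n r.one_le r.ζ r.cyclo) (by have := r.one_le; omega)) =
      Units.ofPowEqOne (r.pull i).ζ n (EtPBC.zeta_pow n r.one_le (r.pull i).ζ (r.pull i).cyclo)
        (by have := r.one_le; omega) := Units.ext rfl
  rw [← hu', ← map_zpow, Units.coe_map]
  show (pullback.fst (EtCoh.top X).hom i).appTop _ =
    (pullback.snd (EtCoh.top X).hom i).appTop (i.appTop _)
  rw [← ConcreteCategory.comp_apply, ← Scheme.Hom.comp_appTop, ← pullback.condition, Scheme.Hom.comp_appTop,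
    show (EtCoh.top X).hom.appTop = 𝟙 _ from rfl]
  rfl

theorem isIso_muCmp_of_root (r : EtPBC.KRoot X n) (i : Z ⟶ X) : IsIso (muCmp i n) := by
  have h : muCmp i n = (EtCoh.pull i).map r.iso.inv ≫ (EtCore.pullConst i (ZMod n)).hom ≫ (r.pull i).iso.hom := by
    rw [← muCmp_root r i, ← Functor.map_comp_assoc, Iso.inv_hom_id, CategoryTheory.Functor.map_id, Category.id_comp]
  rw [h]
  infer_instance

/-- with a root of unity, vanishing does not depend on the comparison -/
theorem Hpull_eq_zero_of_muH (r : EtPBC.KRoot X n) (i : Z ⟶ X) [PreservesFiniteLimits (EtCoh.pull i)] (q : ℕ)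
    (z : EtCoh.H X (EtCoh.mu X n) q) (h : muH n q i z = 0) : EtCore.Hpull i (EtCoh.mu X n) q z = 0 := by
  haveI := isIso_muCmp_of_root r i
  have h' := congrArg (fun t => Ext.comp t (Ext.mk₀ (inv (muCmp i n))) (add_zero q)) h
  change Ext.comp (Ext.comp (EtCore.Hpull i (EtCoh.mu X n) q z) (Ext.mk₀ (muCmp i n)) (add_zero q))
    (Ext.mk₀ (inv (muCmp i n))) (add_zero q) = Ext.comp 0 _ (add_zero q) at h'
  simpa [Ext.mk₀_comp_mk₀] using h'

end Groth.Agent.EtR2
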