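import Groth.Agent.EtR2.Probe
import Groth.Agent.EtPBC.CdDev
import Groth.Agent.EtMV.ConstSect
import Groth.Agent.EtColimH.Local
import Groth.Agent.EtStalk.Applications
import Mathlib

/-!
`R²f_*μ_n` of a smooth proper curve is the constant sheaf.
-/

set_option autoImplicit false
set_option backward.isDefEq.respectTransparency false
set_option backward.isDefEq.respectTransparency.types false
set_option linter.style.haveILetI false
set_option linter.auxLemma false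
set_option maxHeartbeats 1000000
set_option synthInstance.maxHeartbeats 400000

universe u

open CategoryTheory CategoryTheory.Limits CategoryTheory.Abelian AlgebraicGeometry Opposite IsLocalRing TopologicalSpace
open Groth.Agent.EtFLC (res res_res res_id app_res sect_ext mem_iff)

noncomputable section

namespace Groth.Agent.EtR2

attribute [local instance 100000] EtCoh.H._proof_1 EtMV.hext
attribute [local instance 200000] EtMV.hextAb

variable {X S : Scheme.{u}} (f : X ⟶ S)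

theorem cls_res₂ (F : EtCoh.Ab X) {U'' U' U : S.Etale} (b : U'' ⟶ U') (a : U' ⟶ U)
    (x : Ext ((EtMV.P X).obj (pc f U)) F 2) :
    res (R2 f F) (b ≫ a) (cls f F U x) =
      cls f F U'' (rsC F ((EtCoh.bc f).map b) (rsC F ((EtCoh.bc f).map a) x)) := by
  rw [rsC_rsC, ← Functor.map_comp]
  exact cls_res f F (b ≫ a) x

variable (n : ℕ) [IsProper f] [SmoothOfRelativeDimension 1 f]
variable (hirr : ∀ (Ω : Type u) [Field Ω] [IsSepClosed Ω] (s : Spec (CommRingCat.of Ω) ⟶ S),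
  IrreducibleSpace ↑(pullback f s))
variable (hn : IsUnit (n : Γ(S, ⊤))) (hn₁ : 1 ≤ n)

omit [IsProper f] [SmoothOfRelativeDimension 1 f] in
include hn hn₁ in
theorem exists_root_refine (U : S.Etale) (v : U.left) :
    ∃ (W : S.Etale) (a : W ⟶ U) (w : W.left), a.left w = v ∧ Nonempty (EtPBC.KRoot W.left n) := by
  obtain ⟨W', w', hw, r⟩ := exists_root_nhd n hn₁ (isUnit_pull n U.hom hn) v
  haveI : Etale (W'.hom ≫ U.hom) := inferInstance
  exact ⟨Scheme.Etale.mk (W'.hom ≫ U.hom), MorphismProperty.Over.homMk W'.hom rfl, w', hw, r⟩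

include hirr hn hn₁ in
/-- **good classes agree** -/
theorem good_agree (U : S.Etale) {x₁ x₂ : Ext ((EtMV.P X).obj (pc f U)) (EtCoh.mu X n) 2}
    (h₁ : Good f n U x₁) (h₂ : Good f n U x₂) : cls f (EtCoh.mu X n) U x₁ = cls f (EtCoh.mu X n) U x₂ := by
  refine sect_ext _ fun v => ?_
  obtain ⟨W, a, w, hw, ⟨r⟩⟩ := exists_root_refine n hn hn₁ U v
  obtain ⟨P⟩ := nonempty_probe hirr W w
  have h0 : P.val (rsC (EtCoh.mu X n) ((EtCoh.bc f).map a) x₁ - rsC (EtCoh.mu X n) ((EtCoh.bc f).map a) x₂) = 0 := by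
    rw [map_sub, (h₁.restrict a).val_eq P hn, (h₂.restrict a).val_eq P hn, sub_self]
  obtain ⟨W₂, b, ⟨w₂, hw₂⟩, hz⟩ := P.exists_eq_zero hn₁ r _ h0
  refine ⟨W₂, b ≫ a, w₂, ?_, ?_⟩
  · show (b.left ≫ a.left) w₂ = v
    rw [Scheme.Hom.comp_apply, hw₂, hw]
  · rw [cls_res₂, cls_res₂]
    rw [map_sub, sub_eq_zero] at hz
    exact congrArg _ hz

include hirr hn hn₁ in
/-- **the global generator** -/
theorem exists_generator : ∃ g : EtCoh.sect (R2 f (EtCoh.mu X n)) (EtCoh.top S),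
    ∀ (W : S.Etale) (x : Ext ((EtMV.P X).obj (pc f W)) (EtCoh.mu X n) 2), Good f n W x →
      res (R2 f (EtCoh.mu X n)) (EtMV.toTop W) g = cls f (EtCoh.mu X n) W x := by
  let ι := Σ W : S.Etale, { x : Ext ((EtMV.P X).obj (pc f W)) (EtCoh.mu X n) 2 // Good f n W x }
  obtain ⟨g, hg⟩ := EtColimH.exists_amalg (R2 f (EtCoh.mu X n)) (P := EtCoh.top S) (fun i : ι => i.1)
    (fun i => EtMV.toTop i.1) (fun p => by
      obtain ⟨W, a, x, ⟨w, hw⟩, hx⟩ := exists_good f n hirr hn hn₁ (EtCoh.top S) p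
      refine ⟨⟨W, x, hx⟩, w, ?_⟩
      rw [show EtMV.toTop W = a from EtMV.hom_top_ext _ _]
      exact hw)
    (fun i => cls f (EtCoh.mu X n) i.1 i.2.1) (fun i k T a b _ => by
      rw [cls_res, cls_res]
      exact good_agree f n hirr hn hn₁ T (i.2.2.restrict a) (k.2.2.restrict b))
  exact ⟨g, fun W x hx => hg ⟨W, x, hx⟩⟩

include hirr hn hn₁ in
theorem exists_good_root (U : S.Etale) (v : U.left) :
    ∃ (W : S.Etale) (a : W ⟶ U) (w : W.left) (x : Ext ((EtMV.P X).obj (pc f W)) (EtCoh.mu X n) 2),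
      a.left w = v ∧ Nonempty (EtPBC.KRoot W.left n) ∧ Good f n W x := by
  obtain ⟨W, a, x, ⟨w, hw⟩, hx⟩ := exists_good f n hirr hn hn₁ U v
  obtain ⟨W', b, w', hw', r⟩ := exists_root_refine n hn hn₁ W w
  refine ⟨W', b ≫ a, w', _, ?_, r, hx.restrict b⟩
  show (b.left ≫ a.left) w' = v
  rw [Scheme.Hom.comp_apply, hw', hw]

/-- evaluation of a global section -/
theorem constHom_cst' {M : Type} [AddCommGroup M] (G : EtCoh.Ab S) (φ : M →+ EtCoh.sect G (EtCoh.top S))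
    (W : S.Etale) (m : M) :
    (EtPBC.constHom M G φ).hom.app (op W) (EtMV.cst W m) = res G (EtMV.toTop W) (φ m) := by
  rw [← EtMV.res_cst (EtMV.toTop W) m]
  exact (app_res (EtPBC.constHom M G φ) _ _).trans (congrArg _ (EtPBC.constHom_cst M G φ m))

theorem nsmul_ext_mu {A : EtCoh.Ab X} (q : ℕ) (x : Ext A (EtCoh.mu X n) q) : n • x = 0 := by
  rw [← EtPBC.comp_mk₀_nsmul_id x n, nsmul_id_mu, Ext.mk₀_zero, Ext.comp_zero]

include hirr hn hn₁ in
/-- **the sheaf is constant** -/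
theorem nonempty_R2_iso : Nonempty (R2 f (EtCoh.mu X n) ≅ EtCoh.const S (ZMod n)) := by
  obtain ⟨g, hg⟩ := exists_generator f n hirr hn hn₁
  have hn0 : n • g = 0 := by
    refine sect_ext _ fun v => ?_
    obtain ⟨W, a, w, x, hw, -, hx⟩ := exists_good_root f n hirr hn hn₁ (EtCoh.top S) v
    refine ⟨W, a, w, hw, ?_⟩
    rw [show a = EtMV.toTop W from EtMV.hom_top_ext _ _]
    show res _ _ (n • g) = res _ _ (0 : EtCoh.sect (R2 f (EtCoh.mu X n)) (EtCoh.top S))
    rw [map_nsmul, map_zero]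
    show n • res _ (EtMV.toTop W) g = 0
    rw [hg W x hx, ← map_nsmul, nsmul_ext_mu, map_zero]
  let φ : ZMod n →+ EtCoh.sect (R2 f (EtCoh.mu X n)) (EtCoh.top S) :=
    ZMod.lift n ⟨zmultiplesHom _ g, by rw [zmultiplesHom_apply, natCast_zsmul, hn0]⟩
  let χ := EtPBC.constHom (ZMod n) _ φ
  have hφ : ∀ (a : ℤ) (W : S.Etale), χ.hom.app (op W) (EtMV.cst W (a : ZMod n)) =
      a • res (R2 f (EtCoh.mu X n)) (EtMV.toTop W) g := fun a W => by
    rw [constHom_cst', show φ (a : ZMod n) = a • g from (ZMod.lift_coe n _ a).trans (zmultiplesHom_apply _ g a)]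
    exact map_zsmul _ a g
  have hres : ∀ {W' W : S.Etale} (b : W' ⟶ W), res (R2 f (EtCoh.mu X n)) (EtMV.toTop W') g =
      res (R2 f (EtCoh.mu X n)) b (res (R2 f (EtCoh.mu X n)) (EtMV.toTop W) g) := fun {W' W} b => by
    rw [res_res, show b ≫ EtMV.toTop W = EtMV.toTop W' from EtMV.hom_top_ext _ _]
  -- injectivity
  have hinj : ∀ (U : S.Etale) (s : EtCoh.sect (EtCoh.const S (ZMod n)) U), χ.hom.app (op U) s = 0 → s = 0 := by
    intro U s hs
    refine sect_ext _ fun v => ?_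
    obtain ⟨Z, b, z, m, hz, hm⟩ := EtMV.exists_cst s v
    obtain ⟨m, rfl⟩ : ∃ k : ℕ, (k : ZMod n) = m := haveI : NeZero n := ⟨by omega⟩; ⟨m.val, ZMod.natCast_zmod_val m⟩
    refine ⟨Z, b, z, hz, ?_⟩
    have h0 : (m : ℤ) • res (R2 f (EtCoh.mu X n)) (EtMV.toTop Z) g = 0 := by
      rw [← hφ (m : ℤ) Z, Int.cast_natCast, ← show res _ b s = EtMV.cst Z (m : ZMod n) from hm]
      refine (app_res χ b s).trans ?_
      rw [show (χ.hom.app (op U)).hom s = 0 from hs, res, map_zero]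
    obtain ⟨W, a, w, x, hw, -, hx⟩ := exists_good_root f n hirr hn hn₁ Z z
    have h1 : cls f (EtCoh.mu X n) W (m • x) = 0 := by
      rw [map_nsmul, ← hg W x hx, hres a, res, ← map_nsmul, ← natCast_zsmul]
      rw [res] at h0
      rw [show (m : ℤ) • (R2 f (EtCoh.mu X n)).obj.map (EtMV.toTop Z).op g = 0 from h0, map_zero]
    obtain ⟨W', c, ⟨w', hw'⟩, hc⟩ := exists_eq_zero f _ W (m • x) h1 w
    obtain ⟨P⟩ := nonempty_probe hirr W' w'
    have h2 := congrArg P.val hc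
    rw [map_nsmul, map_nsmul, (hx.restrict c).val_eq P hn, map_zero] at h2
    have hdvd := P.dvd_of_nsmul hirr hn hn₁ m h2
    show res _ b s = res _ b 0
    rw [show res _ b s = EtMV.cst Z (m : ZMod n) from hm, (ZMod.natCast_eq_zero_iff m n).2 hdvd]
    have h3 : EtMV.cst Z (0 : ZMod n) = 0 :=
      map_zero ((toSheafify S.smallEtaleTopology (EtMV.cPre0 S (ZMod n))).app (op Z)).hom
    rw [h3, res, map_zero]
  haveI : Mono χ := by
    haveI : ∀ U, Mono (χ.hom.app U) := fun U => (AddCommGrpCat.mono_iff_injective _).2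
      ((injective_iff_map_eq_zero _).2 (hinj U.unop))
    haveI : Mono χ.hom := NatTrans.mono_of_mono_app _
    exact (sheafToPresheaf _ _).mono_of_mono_map (show Mono ((sheafToPresheaf _ _).map χ) from ‹Mono χ.hom›)
  -- surjectivity
  haveI : Sheaf.IsLocallySurjective χ := ⟨fun {U} t => (mem_iff _).2 fun v => by
    obtain ⟨W, a, x, ⟨w, hw⟩, hx⟩ := exists_cls f _ U t v
    obtain ⟨W₁, a₁, w₁, x₁, hw₁, ⟨r⟩, hx₁⟩ := exists_good_root f n hirr hn hn₁ W w
    obtain ⟨P⟩ := nonempty_probe hirr W₁ w₁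
    obtain ⟨k, hk⟩ := P.exists_val_eq hirr hn hn₁ (rsC (EtCoh.mu X n) ((EtCoh.bc f).map a₁) x)
    have h0 : P.val (rsC (EtCoh.mu X n) ((EtCoh.bc f).map a₁) x - k • x₁) = 0 := by
      rw [map_sub, map_zsmul, hk, hx₁.val_eq P hn, sub_self]
    obtain ⟨W₂, b, ⟨w₂, hw₂⟩, hz⟩ := P.exists_eq_zero hn₁ r _ h0
    refine ⟨W₂, b ≫ a₁ ≫ a, w₂, ⟨EtMV.cst W₂ (k : ZMod n), ?_⟩, ?_⟩
    · rw [map_sub, map_zsmul, sub_eq_zero] at hz
      refine (hφ k W₂).trans ?_
      rw [hres b, hg W₁ x₁ hx₁, cls_res, ← map_zsmul, ← hz]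
      refine (cls_res₂ f _ b a₁ x).symm.trans ?_
      rw [hx]
      exact (res_res _ (b ≫ a₁) a t).trans (congrArg (fun m => res (R2 f (EtCoh.mu X n)) m t) (Category.assoc b a₁ a))
    · show (b.left ≫ a₁.left ≫ a.left) w₂ = v
      rw [Scheme.Hom.comp_apply, Scheme.Hom.comp_apply, hw₂, hw₁, hw]⟩
  haveI : Epi χ := (Sheaf.isLocallySurjective_iff_epi' AddCommGrpCat.{u + 1} χ).1 inferInstance
  haveI : IsIso χ := isIso_of_mono_of_epi χ
  exact ⟨(asIso χ).symm⟩

end Groth.Agent.EtR2
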