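import Groth.Agent.EtR2.Good
import Mathlib

/-!
Geometric fibres with a marked point.
-/

set_option autoImplicit false
set_option backward.isDefEq.respectTransparency false
set_option backward.isDefEq.respectTransparency.types false
set_option linter.style.haveILetI false
set_option linter.auxLemma false
set_option maxHeartbeats 1000000
set_option synthInstance.maxHeartbeats 400000

universe u

open CategoryTheory CategoryTheory.Limits CategoryTheory.Abelian AlgebraicGeometry Opposite IsLocalRing TopologicalSpace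

noncomputable section

namespace Groth.Agent.EtR2

attribute [local instance 100000] EtCoh.H._proof_1 EtMV.hext
attribute [local instance 200000] EtMV.hextAb

variable {X S : Scheme.{u}} (f : X ⟶ S)

/-- a geometric fibre with an equation of a point -/
structure Probe (U : S.Etale) (u : U.left) : Type (u + 1) where
  Ω : Type u
  [field : Field Ω]
  [closed : IsAlgClosed Ω]
  ξ : Spec (CommRingCat.of Ω) ⟶ U.left
  isOver : ξ (closedPoint Ω) = u
  y : (pullback (pr f U) ξ : Scheme.{u})
  isClosed : IsClosed ({y} : Set (pullback (pr f U) ξ : Scheme.{u}))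
  O : (pullback (pr f U) ξ : Scheme.{u}).Opens
  E : EtPBC.DivDat (pullback (pr f U) ξ) (EtPBC.compl₁ isClosed) O
  gen : E.GenAt y

attribute [local instance] Probe.field Probe.closed

variable {f} {n : ℕ} {U : S.Etale} {u : U.left}

/-- the fibre of a probe -/
abbrev Probe.fib (P : Probe f U u) : Scheme.{u} := pullback (pr f U) P.ξ

/-- its map to the total space -/
abbrev Probe.g (P : Probe f U u) : P.fib ⟶ X := pullback.fst (pr f U) P.ξ ≫ (pc f U).hom

theorem Probe.unit (P : Probe f U u) (hn : IsUnit (n : Γ(S, ⊤))) : IsUnit (n : Γ(P.fib, ⊤)) :=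
  isUnit_pull n (pullback.snd (pr f U) P.ξ ≫ P.ξ ≫ U.hom) hn

theorem Probe.ne_zero (P : Probe f U u) (hn : IsUnit (n : Γ(S, ⊤))) : (n : P.Ω) ≠ 0 := by
  have h := (isUnit_pull n (P.ξ ≫ U.hom) hn).map (Scheme.ΓSpecIso (CommRingCat.of P.Ω)).hom.hom
  rw [map_natCast] at h
  exact h.ne_zero

instance (P : Probe f U u) : PreservesFiniteLimits (EtCoh.pull P.g) := EtPullExact.pull_preservesFiniteLimits _

/-- the value of a class on a probe -/
def Probe.val (P : Probe f U u) : Ext ((EtMV.P X).obj (pc f U)) (EtCoh.mu X n) 2 →+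
    EtCoh.H P.fib (EtCoh.mu P.fib n) 2 :=
  rμ n 2 P.g (pc f U) (pullback.fst (pr f U) P.ξ) rfl

/-- the class of the marked point -/
def Probe.pt (P : Probe f U u) (hn : IsUnit (n : Γ(S, ⊤))) : EtCoh.H P.fib (EtCoh.mu P.fib n) 2 :=
  dμ (P.unit hn) P.E.cls

theorem Good.val_eq {x : Ext ((EtMV.P X).obj (pc f U)) (EtCoh.mu X n) 2} (hx : Good f n U x) (P : Probe f U u)
    (hn : IsUnit (n : Γ(S, ⊤))) : P.val x = P.pt hn :=
  hx P.Ω P.ξ P.fib _ _ (IsPullback.of_hasPullback (pr f U) P.ξ) P.g rfl (P.unit hn) P.y P.isClosed P.O P.E P.gen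

variable [IsProper f] [SmoothOfRelativeDimension 1 f]
variable (hirr : ∀ (Ω : Type u) [Field Ω] [IsSepClosed Ω] (s : Spec (CommRingCat.of Ω) ⟶ S),
  IrreducibleSpace ↑(pullback f s))

include hirr

theorem nonempty_probe (U : S.Etale) (u : U.left) : Nonempty (Probe f U u) := by
  let Ω := AlgebraicClosure (U.left.residueField u)
  let ξ : Spec (CommRingCat.of Ω) ⟶ U.left :=
    Spec.map (CommRingCat.ofHom (algebraMap (U.left.residueField u) Ω)) ≫ U.left.fromSpecResidueField u
  have sq := sq_to_base f (IsPullback.of_hasPullback (pr f U) ξ)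
  haveI : IsProper (pullback.snd (pr f U) ξ) := MorphismProperty.of_isPullback (P := @IsProper) sq ‹_›
  haveI := smooth_of_sq f sq
  haveI := irreducible_of_sq f hirr sq
  obtain ⟨y, hy, O, E, hE⟩ := exists_pt (pullback.snd (pr f U) ξ)
  exact ⟨⟨Ω, ξ, (Scheme.Hom.comp_apply _ _ _).trans (Scheme.fromSpecResidueField_apply u _), y, hy, O, E, hE⟩⟩

theorem Probe.exists_val_eq (P : Probe f U u) (hn : IsUnit (n : Γ(S, ⊤))) (hn₁ : 1 ≤ n)
    (x : Ext ((EtMV.P X).obj (pc f U)) (EtCoh.mu X n) 2) : ∃ a : ℤ, P.val x = a • P.pt hn := by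
  have sq := sq_to_base f (IsPullback.of_hasPullback (pr f U) P.ξ)
  haveI : IsProper (pullback.snd (pr f U) P.ξ) := MorphismProperty.of_isPullback (P := @IsProper) sq ‹_›
  haveI := smooth_of_sq f sq
  haveI := irreducible_of_sq f hirr sq
  haveI := isIntegral_of_curve (pullback.snd (pr f U) P.ξ)
  exact point_class_gen (pullback.snd (pr f U) P.ξ) hn₁ (P.ne_zero hn) (P.unit hn) P.isClosed P.E P.gen _

theorem Probe.dvd_of_nsmul (P : Probe f U u) (hn : IsUnit (n : Γ(S, ⊤))) (hn₁ : 1 ≤ n) (m : ℕ)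
    (h : m • P.pt hn = 0) : n ∣ m := by
  have sq := sq_to_base f (IsPullback.of_hasPullback (pr f U) P.ξ)
  haveI : IsProper (pullback.snd (pr f U) P.ξ) := MorphismProperty.of_isPullback (P := @IsProper) sq ‹_›
  haveI := smooth_of_sq f sq
  haveI := irreducible_of_sq f hirr sq
  haveI := isIntegral_of_curve (pullback.snd (pr f U) P.ξ)
  exact point_class_order (pullback.snd (pr f U) P.ξ) hn₁ (P.ne_zero hn) (P.unit hn) P.isClosed P.E P.gen m h

omit hirr [SmoothOfRelativeDimension 1 f] in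
theorem Probe.exists_eq_zero (P : Probe f U u) (hn₁ : 1 ≤ n) (r : EtPBC.KRoot U.left n)
    (x : Ext ((EtMV.P X).obj (pc f U)) (EtCoh.mu X n) 2) (h : P.val x = 0) :
    ∃ (W : S.Etale) (a : W ⟶ U), u ∈ Set.range a.left ∧ rsC (EtCoh.mu X n) ((EtCoh.bc f).map a) x = 0 := by
  obtain ⟨W, a, hu, hx⟩ := exists_rsC_eq_zero f n hn₁ U r x P.ξ h
  exact ⟨W, a, P.isOver ▸ hu, hx⟩

end Groth.Agent.EtR2
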