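import Groth.Agent.EtR2.Cls
import Groth.Agent.EtPBC.GmPull
import Groth.Agent.EtPBC.FieldMu
import Groth.Agent.EtLimit.Free
import Groth.Agent.EtMV.Etale
import Groth.Agent.EtAcycX.Descend
import Groth.Agent.EtPullExact.Basic
import Mathlib

/-!
Evaluation of classes of roots of unity at schemes over an étale piece.
-/

set_option autoImplicit false
set_option backward.isDefEq.respectTransparency false
set_option backward.isDefEq.respectTransparency.types false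
set_option linter.style.haveILetI false
set_option linter.auxLemma false

universe u

open CategoryTheory CategoryTheory.Limits CategoryTheory.Abelian AlgebraicGeometry Opposite
open Groth.Agent.EtFLC (res res_res res_id)
open Groth.Agent.EtPicLib (uval uval_res uval_injective)

noncomputable section

namespace Groth.Agent.EtR2

attribute [local instance 100000] EtCoh.H._proof_1 EtMV.hext
attribute [local instance 200000] EtMV.hextAb

variable {X Z W : Scheme.{u}}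

/-- maps out of a pull-back are tested on pulled back sections -/
theorem pull_hom_ext (g : Z ⟶ X) {G : EtCoh.Ab X} {G' : EtCoh.Ab Z} (a b : (EtCoh.pull g).obj G ⟶ G')
    (h : ∀ (o : X.Etale) (s : EtCoh.sect G o),
      a.hom.app (op ((EtCoh.bc g).obj o)) (EtMV.r g (𝟙 _) G s) =
        b.hom.app (op ((EtCoh.bc g).obj o)) (EtMV.r g (𝟙 _) G s)) : a = b := by
  apply ((EtCoh.pullPushAdj g).homEquiv G G').injective
  refine ObjectProperty.hom_ext _ (NatTrans.ext (funext fun o => ConcreteCategory.hom_ext _ _ fun s => ?_))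
  have e : EtMV.r g (𝟙 ((EtCoh.bc g).obj o.unop)) G s =
      ((EtCoh.pullPushAdj g).unit.app G).hom.app o s := by
    rw [EtMV.r, op_id, CategoryTheory.Functor.map_id]
    rfl
  have h' := h o.unop s
  rw [e] at h'
  rw [Adjunction.homEquiv_unit, Adjunction.homEquiv_unit]
  exact h'

/-- maps out of a double pull-back -/
theorem pull2_hom_ext (ι : W ⟶ Z) (g : Z ⟶ X) {G : EtCoh.Ab X} {G' : EtCoh.Ab W}
    (a b : (EtCoh.pull ι).obj ((EtCoh.pull g).obj G) ⟶ G')
    (h : ∀ (o : X.Etale) (s : EtCoh.sect G o),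
      a.hom.app (op ((EtCoh.bc ι).obj ((EtCoh.bc g).obj o))) (EtMV.r ι (𝟙 _) _ (EtMV.r g (𝟙 _) G s)) =
        b.hom.app (op ((EtCoh.bc ι).obj ((EtCoh.bc g).obj o))) (EtMV.r ι (𝟙 _) _ (EtMV.r g (𝟙 _) G s))) :
    a = b := by
  apply ((EtCoh.pullPushAdj ι).homEquiv _ G').injective
  refine pull_hom_ext g _ _ fun o s => ?_
  have e : ∀ z : EtCoh.sect ((EtCoh.pull g).obj G) ((EtCoh.bc g).obj o),
      EtMV.r ι (𝟙 ((EtCoh.bc ι).obj ((EtCoh.bc g).obj o))) _ z =
        ((EtCoh.pullPushAdj ι).unit.app _).hom.app (op ((EtCoh.bc g).obj o)) z := fun z => by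
    rw [EtMV.r, op_id, CategoryTheory.Functor.map_id]
    rfl
  have h' := h o s
  rw [e] at h'
  rw [Adjunction.homEquiv_unit, Adjunction.homEquiv_unit]
  exact h'

set_option maxHeartbeats 1600000 in
/-- comparison of pulled back units under composition -/
theorem gmCmp_comp (ι : W ⟶ Z) (g : Z ⟶ X) (k : W ⟶ X) (w : ι ≫ g = k) :
    (EtMV.ψ ι g k w).hom.app (EtCoh.Gm X) ≫ EtPBC.gmCmp k =
      (EtCoh.pull ι).map (EtPBC.gmCmp g) ≫ EtPBC.gmCmp ι := by
  refine pull2_hom_ext ι g _ _ fun o s => uval_injective ?_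
  let p : ((EtCoh.bc ι).obj ((EtCoh.bc g).obj o)).left ⟶ o.left :=
    EtLimit.fstE ι ((EtCoh.bc g).obj o) ≫ EtLimit.fstE g o
  let δ : (EtCoh.bc ι).obj ((EtCoh.bc g).obj o) ⟶ (EtCoh.bc k).obj o :=
    MorphismProperty.Over.homMk (pullback.lift p ((EtCoh.bc ι).obj ((EtCoh.bc g).obj o)).hom (by
      subst w
      show (pullback.fst (pullback.snd o.hom g) ι ≫ pullback.fst o.hom g) ≫ o.hom =
        pullback.snd (pullback.snd o.hom g) ι ≫ ι ≫ g
      rw [Category.assoc, pullback.condition, pullback.condition_assoc])) (pullback.lift_snd _ _ _)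
  have hδ : δ.left ≫ EtLimit.fstE k o = p := pullback.lift_fst _ _ _
  have h₁ : ((EtMV.ψ ι g k w).hom.app (EtCoh.Gm X) ≫ EtPBC.gmCmp k).hom.app
      (op ((EtCoh.bc ι).obj ((EtCoh.bc g).obj o))) (EtMV.r ι (𝟙 _) _ (EtMV.r g (𝟙 _) _ s)) =
      (EtPBC.gmCmp k).hom.app _ (EtMV.r k δ _ s) :=
    congrArg (fun z => (EtPBC.gmCmp k).hom.app (op ((EtCoh.bc ι).obj ((EtCoh.bc g).obj o))) z)
     (EtLimit.r_comp' ι g k w (𝟙 _) (𝟙 _) δ (by
      rw [hδ]
      show 𝟙 _ ≫ EtLimit.fstE ι ((EtCoh.bc g).obj o) ≫ 𝟙 _ ≫ EtLimit.fstE g o = p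
      rw [Category.id_comp, Category.id_comp]) _ s)
  have h₂ : ((EtCoh.pull ι).map (EtPBC.gmCmp g) ≫ EtPBC.gmCmp ι).hom.app
      (op ((EtCoh.bc ι).obj ((EtCoh.bc g).obj o))) (EtMV.r ι (𝟙 _) _ (EtMV.r g (𝟙 _) _ s)) =
      (EtPBC.gmCmp ι).hom.app _ (EtMV.r ι (𝟙 _) _ ((EtPBC.gmCmp g).hom.app _ (EtMV.r g (𝟙 _) _ s))) :=
    congrArg (fun z => (EtPBC.gmCmp ι).hom.app (op ((EtCoh.bc ι).obj ((EtCoh.bc g).obj o))) z) (EtMV.r_natural ι (𝟙 _) (EtPBC.gmCmp g) _)
  refine (congrArg uval h₁).trans (Eq.trans ?_ (congrArg uval h₂).symm)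
  rw [EtPBC.uval_gmCmp_r, EtPBC.uval_gmCmp_r, EtPBC.uval_gmCmp_r,
    show δ.left ≫ pullback.fst o.hom k = p from hδ]
  have e : p = ((show (EtCoh.bc ι).obj ((EtCoh.bc g).obj o) ⟶ (EtCoh.bc ι).obj ((EtCoh.bc g).obj o) from 𝟙 _).left ≫
      pullback.fst ((EtCoh.bc g).obj o).hom ι) ≫
      ((show (EtCoh.bc g).obj o ⟶ (EtCoh.bc g).obj o from 𝟙 _).left ≫ pullback.fst o.hom g) := by
    show EtLimit.fstE ι ((EtCoh.bc g).obj o) ≫ EtLimit.fstE g o = (𝟙 _ ≫ pullback.fst _ ι) ≫ 𝟙 _ ≫ pullback.fst o.hom g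
    rw [Category.id_comp, Category.id_comp]
  exact (congrArg (fun m : _ ⟶ o.left => m.appTop (uval s)) e).trans rfl

/-- pulled back roots of unity map to roots of unity -/
def muCmp (g : Z ⟶ X) (n : ℕ) : (EtCoh.pull g).obj (EtCoh.mu X n) ⟶ EtCoh.mu Z n :=
  kernel.lift (EtCoh.powMap Z n) ((EtCoh.pull g).map (EtCoh.muι X n) ≫ EtPBC.gmCmp g) (by
    haveI : (EtCoh.pull g).Additive := (EtCoh.pullPushAdj g).left_adjoint_additive
    have h : EtPBC.gmCmp g ≫ EtCoh.powMap Z n = (EtCoh.pull g).map (EtCoh.powMap X n) ≫ EtPBC.gmCmp g := by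
      rw [EtCoh.powMap, EtCoh.powMap, Preadditive.comp_nsmul, Category.comp_id, Functor.map_nsmul,
        CategoryTheory.Functor.map_id, Preadditive.nsmul_comp, Category.id_comp]
    rw [Category.assoc, h, ← Category.assoc, ← Functor.map_comp, EtCoh.muι, kernel.condition, Functor.map_zero,
      zero_comp])

theorem muCmp_muι (g : Z ⟶ X) (n : ℕ) :
    muCmp g n ≫ EtCoh.muι Z n = (EtCoh.pull g).map (EtCoh.muι X n) ≫ EtPBC.gmCmp g :=
  kernel.lift_ι _ _ _

/-- comparison of roots of unity under composition -/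
theorem muCmp_comp (ι : W ⟶ Z) (g : Z ⟶ X) (k : W ⟶ X) (w : ι ≫ g = k) (n : ℕ) :
    (EtMV.ψ ι g k w).hom.app (EtCoh.mu X n) ≫ muCmp k n = (EtCoh.pull ι).map (muCmp g n) ≫ muCmp ι n := by
  haveI : Mono (EtCoh.muι W n) := inferInstanceAs (Mono (kernel.ι (EtCoh.powMap W n)))
  refine (cancel_mono (EtCoh.muι W n)).1 ?_
  rw [Category.assoc, muCmp_muι, Category.assoc, muCmp_muι, ← Functor.map_comp_assoc, muCmp_muι,
    Functor.map_comp_assoc, ← gmCmp_comp ι g k w, ← Category.assoc, ← Category.assoc]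
  exact congrArg (· ≫ EtPBC.gmCmp k) ((EtMV.ψ ι g k w).hom.naturality (EtCoh.muι X n)).symm

/-- along étale maps the comparison of units is an isomorphism -/
theorem gmPullIso_hom (h : Z ⟶ X) [Etale h] [EtShriek.JCont h] : (EtPBC.gmPullIso h).hom = EtPBC.gmCmp h := by
  let A := EtPushStalk.restrPushAdj h
  let B := EtCoh.pullPushAdj h
  apply (B.homEquiv (EtCoh.Gm X) (EtCoh.Gm Z)).injective
  rw [EtPBC.gmCmp, Equiv.apply_symm_apply, Adjunction.homEquiv_unit]
  have hu : B.unit.app (EtCoh.Gm X) = A.unit.app (EtCoh.Gm X) ≫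
      (EtCoh.push h).map ((EtPushStalk.restrPullIso h).hom.app (EtCoh.Gm X)) :=
    (Adjunction.unit_leftAdjointUniq_hom_app A B _).symm
  rw [hu, Category.assoc, ← Functor.map_comp, EtPBC.gmPullIso, Iso.trans_hom, Iso.symm_hom, Iso.app_inv,
    Iso.hom_inv_id_app_assoc]
  refine ObjectProperty.hom_ext _ (NatTrans.ext (funext fun o => ?_))
  have hA := congr_app (Adjunction.map_restrictFullyFaithful_unit_app
      ((EtPushStalk.compBcAdj h).op.whiskerLeft AddCommGrpCat.{u + 1})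
      (fullyFaithfulSheafToPresheaf X.smallEtaleTopology AddCommGrpCat.{u + 1})
      (fullyFaithfulSheafToPresheaf _ _)
      (L := EtShriek.restrAlong h) (R := EtCoh.push h) (Iso.refl _) (Iso.refl _) (EtCoh.Gm X)) o
  simp at hA
  have hA' : (A.unit.app (EtCoh.Gm X)).hom.app o =
      (EtCoh.Gm X).obj.map ((EtPushStalk.compBcAdj h).counit.app o.unop).op := hA
  show (A.unit.app (EtCoh.Gm X)).hom.app o ≫ (EtPBC.gmRestrIso h).hom.hom.app _ = _
  rw [hA']
  have e : ((EtPushStalk.compBcAdj h).counit.app o.unop).left = pullback.fst o.unop.hom h := by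
    simp [EtPushStalk.compBcAdj, MorphismProperty.Over.mapPullbackAdj]
  refine Eq.trans (Category.comp_id _) ?_
  show EtCoh.ΓUnits.map ((EtPushStalk.compBcAdj h).counit.app o.unop).left.op = EtCoh.ΓUnits.map _
  rw [e]

theorem isIso_gmCmp (h : Z ⟶ X) [Etale h] : IsIso (EtPBC.gmCmp h) := by
  haveI := EtMV.jcont_etale h
  rw [← gmPullIso_hom h]
  infer_instance

theorem isIso_muCmp (h : Z ⟶ X) [Etale h] (n : ℕ) : IsIso (muCmp h n) := by
  haveI := EtMV.jcont_etale h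
  haveI := EtPullExact.pull_preservesFiniteLimits h
  haveI : Mono (EtCoh.muι Z n) := inferInstanceAs (Mono (kernel.ι (EtCoh.powMap Z n)))
  haveI : (EtCoh.pull h).Additive := Functor.additive_of_preserves_binary_products _
  have : muCmp h n = (EtPBC.muPullIso h n).hom := by
    refine (cancel_mono (EtCoh.muι Z n)).1 ?_
    rw [muCmp_muι, ← gmPullIso_hom h, EtPBC.muPullIso]
    simp [EtCoh.muι, kernel.mapIso]
  rw [this]
  infer_instance

variable (n q : ℕ)

/-- pull-back of classes with values in roots of unity -/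
def muH (g : Z ⟶ X) [PreservesFiniteLimits (EtCoh.pull g)] :
    EtCoh.H X (EtCoh.mu X n) q →+ EtCoh.H Z (EtCoh.mu Z n) q :=
  ((Ext.mk₀ (muCmp g n)).postcomp _ (add_zero q)).comp (EtCore.Hpull g (EtCoh.mu X n) q)

/-- the point of a piece given by a lift -/
def δof (g : Z ⟶ X) (V : X.Etale) (g' : Z ⟶ V.left) (w : g' ≫ V.hom = g) : EtCoh.top Z ⟶ (EtCoh.bc g).obj V :=
  MorphismProperty.Over.homMk (pullback.lift g' (𝟙 Z) (w.trans (Category.id_comp g).symm)) (pullback.lift_snd _ _ _)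

theorem δof_fst (g : Z ⟶ X) (V : X.Etale) (g' : Z ⟶ V.left) (w : g' ≫ V.hom = g) :
    (δof g V g' w).left ≫ EtLimit.fstE g V = g' :=
  pullback.lift_fst _ _ _

/-- evaluation of a class on a piece at a scheme over the piece -/
def rμ (g : Z ⟶ X) [PreservesFiniteLimits (EtCoh.pull g)] (V : X.Etale) (g' : Z ⟶ V.left) (w : g' ≫ V.hom = g) :
    Ext ((EtMV.P X).obj V) (EtCoh.mu X n) q →+ EtCoh.H Z (EtCoh.mu Z n) q :=
  ((Ext.mk₀ (muCmp g n)).postcomp _ (add_zero q)).comp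
    (EtMV.T (EtCoh.pull g) (EtMV.cc g (δof g V g' w)) (EtCoh.mu X n) q)

/-- evaluation and restriction -/
theorem rμ_res (g : Z ⟶ X) [PreservesFiniteLimits (EtCoh.pull g)] {V' V : X.Etale} (a : V' ⟶ V)
    (g' : Z ⟶ V'.left) (w : g' ≫ V'.hom = g) (w' : (g' ≫ a.left) ≫ V.hom = g)
    (x : Ext ((EtMV.P X).obj V) (EtCoh.mu X n) q) :
    rμ n q g V' g' w ((Ext.mk₀ ((EtMV.P X).map a)).comp x (zero_add q)) = rμ n q g V (g' ≫ a.left) w' x := by
  show Ext.comp (EtMV.T (EtCoh.pull g) _ _ q _) _ (add_zero q) =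
    Ext.comp (EtMV.T (EtCoh.pull g) _ _ q x) _ (add_zero q)
  rw [EtMV.T_precomp]
  have e : EtMV.cc g (δof g V' g' w) ≫ (EtCoh.pull g).map ((EtMV.P X).map a) =
      EtMV.cc g (δof g V (g' ≫ a.left) w') := by
    apply (EtMV.κ_bijective _).1
    rw [EtMV.κ_cc_map, EtMV.κ_cc, ← Category.comp_id ((EtMV.P X).map a), EtMV.σ_map, EtLimit.r_map]
    refine congrArg (fun δ => EtMV.r g δ ((EtMV.P X).obj V) (EtMV.uel V)) (EtLimit.bc_hom_ext g _ _ ?_)
    rw [MorphismProperty.Comma.comp_left, Category.assoc, EtLimit.bc_map_fst, ← Category.assoc, δof_fst, δof_fst]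
  rw [e]

set_option maxHeartbeats 1600000 in
/-- evaluation and further pull-back -/
theorem muH_rμ (ι : W ⟶ Z) (g : Z ⟶ X) (k : W ⟶ X) (w : ι ≫ g = k)
    [PreservesFiniteLimits (EtCoh.pull ι)] [PreservesFiniteLimits (EtCoh.pull g)]
    [PreservesFiniteLimits (EtCoh.pull k)] (V : X.Etale) (g' : Z ⟶ V.left) (hg : g' ≫ V.hom = g)
    (hk : (ι ≫ g') ≫ V.hom = k) (x : Ext ((EtMV.P X).obj V) (EtCoh.mu X n) q) :
    muH n q ι (rμ n q g V g' hg x) = rμ n q k V (ι ≫ g') hk x := by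
  show Ext.comp (EtMV.T (EtCoh.pull ι) (EtCore.pullConst ι ℤ).inv (EtCoh.mu Z n) q
    (Ext.comp (EtMV.T (EtCoh.pull g) (EtMV.cc g (δof g V g' hg)) (EtCoh.mu X n) q x)
      (Ext.mk₀ (muCmp g n)) (add_zero q))) (Ext.mk₀ (muCmp ι n)) (add_zero q) =
    Ext.comp (EtMV.T (EtCoh.pull k) (EtMV.cc k (δof k V (ι ≫ g') hk)) (EtCoh.mu X n) q x) (Ext.mk₀ (muCmp k n))
      (add_zero q)
  rw [EtMV.T_comp_mk₀, Ext.comp_assoc_of_third_deg_zero, Ext.mk₀_comp_mk₀, ← muCmp_comp ι g k w,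
    ← Ext.mk₀_comp_mk₀, ← Ext.comp_assoc_of_third_deg_zero]
  congr 1
  refine EtMV.T_T_pull ι g k (EtMV.ψ ι g k w) (EtMV.cc g (δof g V g' hg)) (EtCore.pullConst ι ℤ).inv
    (EtMV.cc k (δof k V (ι ≫ g') hk)) ?_ q _ x
  apply (EtMV.κ_bijective _).1
  rw [EtMV.κ_cc, EtMV.κ_comp, EtMV.κ_pullConst _ (EtMV.δtop ι)]
  show ((EtMV.ψ ι g k w).hom.app ((EtMV.P X).obj V)).hom.app _ (((EtCoh.pull ι).map (EtMV.cc g (δof g V g' hg))).hom.app _ _) = _
  rw [EtMV.r_natural]
  rw [show (EtMV.cc g (δof g V g' hg)).hom.app (op (EtCoh.top _)) (EtMV.one _) =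
    EtMV.r g (δof g V g' hg) _ (EtMV.uel V) from EtMV.κ_cc _ _]
  refine EtLimit.r_comp' ι g k w (δof g V g' hg) (EtMV.δtop ι) (δof k V (ι ≫ g') hk) ?_ _ _
  rw [δof_fst, δof_fst, ← Category.assoc]
  congr 1
  show (EtCore.bcTopIso ι).inv.left ≫ pullback.fst (EtCoh.top Z).hom ι = ι
  have h := pullback.condition (f := (EtCoh.top Z).hom) (g := ι)
  rw [show pullback.fst (EtCoh.top Z).hom ι = pullback.snd (EtCoh.top Z).hom ι ≫ ι from
      (Category.comp_id _).symm.trans h, ← Category.assoc]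
  exact (congrArg (· ≫ ι) (MorphismProperty.Over.w (EtCore.bcTopIso ι).inv)).trans (Category.id_comp ι)

/-- evaluation at the piece itself is bijective -/
theorem rμ_bijective (V : X.Etale) [PreservesFiniteLimits (EtCoh.pull V.hom)] :
    Function.Bijective (rμ n q V.hom V (𝟙 V.left) (Category.id_comp _)) := by
  haveI := isIso_muCmp V.hom n
  have h2 : Function.Bijective (fun z : Ext (EtCoh.const V.left ℤ) ((EtCoh.pull V.hom).obj (EtCoh.mu X n)) q =>
      Ext.comp z (Ext.mk₀ (muCmp V.hom n)) (add_zero q)) := by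
    refine Function.bijective_iff_has_inverse.2 ⟨fun z => Ext.comp z (Ext.mk₀ (inv (muCmp V.hom n))) (add_zero q),
      fun z => ?_, fun z => ?_⟩
    · simp [Ext.mk₀_comp_mk₀]
    · simp [Ext.mk₀_comp_mk₀]
  exact h2.comp (EtMV.Tcc_etale_bijective V.hom (EtCoh.mu X n) q)

end Groth.Agent.EtR2
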